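import Cfsg.Agent.Lib.Char.Primitive.Steps

/-!
# Average fixed point dimension in cosets of a normal abelian subgroup

For an abelian group `A` of automorphisms of coprime order without fixed points and `g` normalising `A`,
the fixed point spaces in the coset `g A` have dimension at most one half on average.  Hence the chief
factor bound holds with constant one half for every solvable group.
-/

set_option autoImplicit false
set_option linter.style.haveILetI false

namespace CfsgLib.Char.Primitive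

variable {V : Type*} [CommGroup V] [Finite V] {A : Subgroup (MulAut V)}

/-- The points of `W` fixed by `B`. -/
def fixIn (W : Subgroup V) (B : Subgroup A) : Subgroup V where
  carrier := {w | w ∈ W ∧ ∀ b ∈ B, ((b : A) : MulAut V) w = w}
  one_mem' := ⟨W.one_mem, fun _ _ => map_one _⟩
  mul_mem' := fun {x y} hx hy => ⟨W.mul_mem hx.1 hy.1, fun b hb => by
    rw [map_mul, hx.2 b hb, hy.2 b hb]⟩
  inv_mem' := fun {x} hx => ⟨W.inv_mem hx.1, fun b hb => by rw [map_inv, hx.2 b hb]⟩

/-- The norm map of `B`. -/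
noncomputable def normMap [Fintype A] (B : Subgroup A) : V →* V where
  toFun v := open Classical in ∏ b ∈ Finset.univ.filter (fun b : A => b ∈ B), ((b : A) : MulAut V) v
  map_one' := by simp
  map_mul' x y := by simp [Finset.prod_mul_distrib]

omit [Finite V] in
theorem normMap_apply [Fintype A] (B : Subgroup A) [DecidablePred (· ∈ B)] (v : V) :
    normMap B v = ∏ b ∈ Finset.univ.filter (fun b : A => b ∈ B), ((b : A) : MulAut V) v :=
  Finset.prod_congr (by ext; simp) fun _ _ => rfl

omit [Finite V] in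
theorem map_normMap [Fintype A] (hA : ∀ a ∈ A, ∀ b ∈ A, a * b = b * a) (B : Subgroup A)
    (a : MulAut V) (ha : a ∈ A) (v : V) : a (normMap B v) = normMap B (a v) := by
  classical
  rw [normMap_apply, normMap_apply, map_prod]
  refine Finset.prod_congr rfl fun b _ => ?_
  exact congrArg (fun e : MulAut V => e v) (hA a ha b b.2)

omit [Finite V] in
theorem normMap_absorb [Fintype A] (B : Subgroup A) {c : A} (hc : c ∈ B) (v : V) :
    normMap B ((c : MulAut V) v) = normMap B v := by
  classical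
  rw [normMap_apply, normMap_apply]
  refine Finset.prod_equiv (Equiv.mulRight c) (fun b => ?_) (fun b _ => rfl)
  simp [Subgroup.mul_mem_cancel_right B hc]

omit [Finite V] in
theorem map_normMap_conj [Fintype A] (B : Subgroup A) (g : MulAut V) (σ : A ≃* A)
    (hσ : ∀ a : A, ((σ a : A) : MulAut V) = g * a * g⁻¹) (v : V) :
    g (normMap B v) = normMap (B.map σ.toMonoidHom) (g v) := by
  classical
  rw [normMap_apply, normMap_apply, map_prod]
  refine Finset.prod_equiv σ.toEquiv (fun b => ?_) (fun b _ => ?_)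
  · simp only [Finset.mem_filter, Finset.mem_univ, true_and, Subgroup.mem_map]
    exact ⟨fun h => ⟨b, h, rfl⟩, fun ⟨x, hx, e⟩ => σ.injective e ▸ hx⟩
  · show g ((b : MulAut V) v) = ((σ b : A) : MulAut V) (g v)
    rw [hσ]
    simp [MulAut.mul_apply]

theorem exists_pairing [Fintype A] (W : Subgroup V) (g z : MulAut V) (hz : z ∈ A)
    (hfree : ∀ w ∈ W, z w = w → w = 1) :
    (∏ a : A, Nat.card (Fx (g * (a : MulAut V)) ⊓ W : Subgroup V)) ^ 2 ≤
      Nat.card W ^ Fintype.card A := by
  classical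
  have hpair : ∀ a : A, Nat.card (Fx (g * (a : MulAut V)) ⊓ W : Subgroup V) *
      Nat.card (Fx (g * ((a * ⟨z, hz⟩ : A) : MulAut V)) ⊓ W : Subgroup V) ≤ Nat.card W := by
    intro a
    let X : Subgroup V := Fx (g * (a : MulAut V)) ⊓ W
    let Y : Subgroup V := Fx (g * ((a * ⟨z, hz⟩ : A) : MulAut V)) ⊓ W
    let m : X × Y → W := fun p => ⟨p.1.1 * p.2.1, W.mul_mem p.1.2.2 p.2.2.2⟩
    have hm : Function.Injective m := by
      intro p q hpq
      have hpq' : p.1.1 * p.2.1 = q.1.1 * q.2.1 := congrArg Subtype.val hpq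
      have hd : q.1.1⁻¹ * p.1.1 = q.2.1 * p.2.1⁻¹ := by
        rw [eq_mul_inv_iff_mul_eq, mul_assoc, hpq', inv_mul_cancel_left]
      have hmem : q.1.1⁻¹ * p.1.1 = 1 := by
        refine hfree _ (W.mul_mem (W.inv_mem q.1.2.2) p.1.2.2)
          (Fx_inf_mul_le (g * (a : MulAut V)) z ⟨?_, ?_⟩)
        · exact (Fx _).mul_mem ((Fx _).inv_mem q.1.2.1) p.1.2.1
        · rw [hd, mul_assoc]
          exact (Fx (g * ((a : MulAut V) * z))).mul_mem q.2.2.1
            ((Fx (g * ((a : MulAut V) * z))).inv_mem p.2.2.1)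
      have h1 : p.1.1 = q.1.1 := (inv_mul_eq_one.1 hmem).symm
      have h2 : p.2.1 = q.2.1 := by
        rw [h1] at hpq'
        exact mul_left_cancel hpq'
      exact Prod.ext (Subtype.ext h1) (Subtype.ext h2)
    calc _ = Nat.card (X × Y) := (Nat.card_prod _ _).symm
      _ ≤ Nat.card W := Nat.card_le_card_of_injective m hm
  calc _ = (∏ a : A, Nat.card (Fx (g * (a : MulAut V)) ⊓ W : Subgroup V)) *
        ∏ a : A, Nat.card (Fx (g * ((a * ⟨z, hz⟩ : A) : MulAut V)) ⊓ W : Subgroup V) := by
          rw [sq]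
          refine congrArg _ (Eq.symm ?_)
          exact Fintype.prod_equiv (Equiv.mulRight (⟨z, hz⟩ : A)) _ _ fun _ => rfl
    _ = ∏ a : A, _ := Finset.prod_mul_distrib.symm
    _ ≤ ∏ _a : A, Nat.card W := Finset.prod_le_prod' fun a _ => hpair a
    _ = _ := by rw [Finset.prod_const, Finset.card_univ]

/-- On average the elements of a coset of a fixed point free abelian group move half of the module. -/
theorem prod_card_Fx_coset_sq_le (A : Subgroup (MulAut V)) [Fintype A]
    (hA : ∀ a ∈ A, ∀ b ∈ A, a * b = b * a) (hcop : (Nat.card A).Coprime (Nat.card V))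
    (g : MulAut V) (hg : g ∈ Subgroup.normalizer (A : Set (MulAut V))) :
    ∀ n : ℕ, ∀ W : Subgroup V, Nat.card W = n → (∀ a ∈ A, ∀ w ∈ W, (a : MulAut V) w ∈ W) →
      (∀ w ∈ W, g w ∈ W) →
      (∀ w ∈ W, (∀ a ∈ A, (a : MulAut V) w = w) → w = 1) →
      (∏ a : A, Nat.card (Fx (g * (a : MulAut V)) ⊓ W : Subgroup V)) ^ 2 ≤
        Nat.card W ^ Fintype.card A := by
  classical
  intro n
  induction n using Nat.strong_induction_on with
  | _ n ih =>
  intro W hn hinv hginv hfix
  by_cases hW : W = ⊥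
  · subst hW
    simp
  let σ : A ≃* A :=
    { toFun := fun a => ⟨g * a * g⁻¹, (Subgroup.mem_normalizer_iff.1 hg a).1 a.2⟩
      invFun := fun a => ⟨g⁻¹ * a * g, (Subgroup.mem_normalizer_iff''.1 hg a).1 a.2⟩
      left_inv := fun a => Subtype.ext (by simp [mul_assoc])
      right_inv := fun a => Subtype.ext (by simp [mul_assoc])
      map_mul' := fun a b => Subtype.ext (by simp [mul_assoc]) }
  have hσ : ∀ a : A, ((σ a : A) : MulAut V) = g * a * g⁻¹ := fun a => rfl
  -- a maximal subgroup with fixed points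
  obtain ⟨B, hBmax⟩ := (Set.toFinite {B : Subgroup A | fixIn W B ≠ ⊥}).exists_maximal
    ⟨⊥, fun h => hW (eq_bot_iff.2 fun w hw => h.le ⟨hw, fun b hb => by
      rw [Subgroup.mem_bot.1 hb]; rfl⟩)⟩
  have hBne : fixIn W B ≠ ⊥ := hBmax.prop
  have hBtop : ∀ C : Subgroup A, B < C → fixIn W C = ⊥ := fun C hC => by
    by_contra h
    exact hBmax.not_gt h hC
  -- its orbit
  let T : Finset (Subgroup A) :=
    Finset.univ.filter fun C => ∃ k : ℕ, C = (fun D : Subgroup A => D.map σ.toMonoidHom)^[k] B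
  have hBT : B ∈ T := Finset.mem_filter.2 ⟨Finset.mem_univ _, 0, rfl⟩
  have hmapinj : Function.Injective (fun D : Subgroup A => D.map σ.toMonoidHom) :=
    Subgroup.map_injective σ.injective
  have hTimage : T.image (fun D : Subgroup A => D.map σ.toMonoidHom) = T := by
    refine Finset.eq_of_subset_of_card_le (fun C hC => ?_) ?_
    · obtain ⟨D, hD, rfl⟩ := Finset.mem_image.1 hC
      obtain ⟨k, rfl⟩ := (Finset.mem_filter.1 hD).2
      exact Finset.mem_filter.2 ⟨Finset.mem_univ _, k + 1, (Function.iterate_succ_apply' _ k B).symm⟩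
    · rw [Finset.card_image_of_injective _ hmapinj]
  have hgfix : ∀ (C : Subgroup A) (w : V), w ∈ fixIn W C → g w ∈ fixIn W (C.map σ.toMonoidHom) := by
    rintro C w ⟨hw, hfw⟩
    refine ⟨hginv w hw, ?_⟩
    rintro _ ⟨b, hb, rfl⟩
    show ((σ b : A) : MulAut V) (g w) = g w
    rw [hσ]
    simp [MulAut.mul_apply, hfw b hb]
  have hTmax : ∀ C ∈ T, fixIn W C ≠ ⊥ ∧ Nat.card C = Nat.card B := by
    intro C hC
    obtain ⟨k, rfl⟩ := (Finset.mem_filter.1 hC).2
    clear hC
    induction k with
    | zero => exact ⟨hBne, rfl⟩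
    | succ k ihk =>
      rw [Function.iterate_succ_apply']
      refine ⟨fun h => ihk.1 (eq_bot_iff.2 fun w hw => Subgroup.mem_bot.2 ?_), ?_⟩
      · have h1 := hgfix _ w hw
        rw [h, Subgroup.mem_bot] at h1
        exact g.injective (h1.trans (map_one g).symm)
      · rw [Subgroup.card_map_of_injective σ.injective]
        exact ihk.2
  have hdisj : ∀ C ∈ T, C ≠ B → ∀ w, w ∈ fixIn W B → w ∈ fixIn W C → w = 1 := by
    intro C hC hne w hwB hwC
    have hlt : B < B ⊔ C := by
      refine lt_of_le_of_ne le_sup_left fun h => hne ?_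
      exact Subgroup.eq_of_le_of_card_ge (h ▸ le_sup_right) (hTmax C hC).2.ge
    have hmem : w ∈ fixIn W (B ⊔ C) := by
      refine ⟨hwB.1, ?_⟩
      let St : Subgroup A :=
        { carrier := {a | ((a : A) : MulAut V) w = w}
          one_mem' := rfl
          mul_mem' := fun {a b} ha hb => by
            show (a : MulAut V) ((b : MulAut V) w) = w
            rw [show (b : MulAut V) w = w from hb, show (a : MulAut V) w = w from ha]
          inv_mem' := fun {a} ha => by
            show ((a : MulAut V)⁻¹) w = w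
            conv_lhs => rw [← show (a : MulAut V) w = w from ha]
            exact MulAut.inv_apply_self V (a : MulAut V) w }
      intro b hb
      exact (sup_le (fun x hx => hwB.2 x hx) (fun x hx => hwC.2 x hx) : B ⊔ C ≤ St) hb
    rwa [hBtop _ hlt, Subgroup.mem_bot] at hmem
  -- norm maps
  have hcomm : ∀ a ∈ A, ∀ (C : Subgroup A) (v : V), (a : MulAut V) (normMap C v) = normMap C (a v) :=
    fun a ha C v => map_normMap hA C a ha v
  have hgnorm : ∀ (C : Subgroup A) (v : V), g (normMap C v) = normMap (C.map σ.toMonoidHom) (g v) :=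
    fun C v => map_normMap_conj C g σ hσ v
  have hmemW : ∀ (C : Subgroup A), ∀ w ∈ W, normMap C w ∈ W := fun C w hw => by
    rw [normMap_apply]
    exact W.prod_mem fun b _ => hinv b b.2 w hw
  have hnormfix : ∀ (C : Subgroup A), ∀ w ∈ W, normMap C w ∈ fixIn W C := fun C w hw =>
    ⟨hmemW C w hw, fun b hb => by rw [hcomm b b.2, normMap_absorb C hb]⟩
  have hnormself : ∀ (C : Subgroup A), ∀ w ∈ fixIn W C, normMap C w = w ^ Nat.card C := by
    intro C w hw
    rw [normMap_apply, Finset.prod_congr rfl (g := fun _ => w)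
      (fun b hb => hw.2 b (Finset.mem_filter.1 hb).2), Finset.prod_const, Nat.card_eq_fintype_card,
      Fintype.card_subtype]
  have hpowinj : ∀ (C : Subgroup A) (w : V), w ^ Nat.card C = 1 → w = 1 := by
    intro C w hw
    have h1 : orderOf w ∣ Nat.card C := orderOf_dvd_of_pow_eq_one hw
    have h2 : orderOf w ∣ Nat.card V := orderOf_dvd_natCard w
    exact orderOf_eq_one_iff.1 (Nat.eq_one_of_dvd_coprimes hcop
      (h1.trans (Subgroup.card_subgroup_dvd_card C)) h2)
  have hnormdisj : ∀ C ∈ T, C ≠ B → ∀ w ∈ fixIn W B, normMap C w = 1 := by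
    intro C hC hne w hw
    refine hdisj C hC hne _ ⟨hmemW C w hw.1, fun b hb => ?_⟩ (hnormfix C w hw.1)
    rw [hcomm b b.2, hw.2 b hb]
  -- the product of the norm maps of the orbit
  let f : V →* V := ∏ C ∈ T, normMap C
  have hfdef : ∀ v, f v = ∏ C ∈ T, normMap C v := fun v => MonoidHom.finsetProd_apply _ _ _
  have hfW : ∀ w ∈ W, f w ∈ W := fun w hw => by
    rw [hfdef]; exact W.prod_mem fun C _ => hmemW C w hw
  have hfA : ∀ a ∈ A, ∀ v, (a : MulAut V) (f v) = f (a v) := fun a ha v => by
    rw [hfdef, hfdef, map_prod]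
    exact Finset.prod_congr rfl fun C _ => hcomm a ha C v
  have hfg : ∀ v, g (f v) = f (g v) := fun v => by
    rw [hfdef, hfdef, map_prod]
    conv_rhs => rw [← hTimage, Finset.prod_image fun x _ y _ h => hmapinj h]
    exact Finset.prod_congr rfl fun C _ => hgnorm C v
  set W0 := f.ker ⊓ W with hW0
  set W1 := W.map f with hW1
  have hW1le : W1 ≤ W := by rintro _ ⟨w, hw, rfl⟩; exact hfW w hw
  have hcard : Nat.card W0 * Nat.card W1 = Nat.card W := by
    have h := Subgroup.card_mul_index (f.comp W.subtype).ker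
    rw [Subgroup.index_ker, MonoidHom.range_comp, W.range_subtype] at h
    rw [← h, mul_comm, mul_comm (Nat.card (f.comp W.subtype).ker)]
    refine congrArg _ (Nat.card_congr ?_)
    exact
      { toFun := fun v => ⟨⟨v.1, v.2.2⟩, v.2.1⟩
        invFun := fun x => ⟨x.1.1, x.2, x.1.2⟩
        left_inv := fun _ => rfl
        right_inv := fun _ => rfl }
  obtain ⟨w₀, hw₀, hw₀1⟩ := (fixIn W B).bot_or_exists_ne_one.resolve_left hBne
  have hfw₀ : f w₀ ≠ 1 := by
    rw [hfdef, Finset.prod_eq_single B (fun C hC hne => hnormdisj C hC hne w₀ hw₀)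
      (fun h => absurd hBT h), hnormself B w₀ hw₀]
    exact fun h => hw₀1 (hpowinj B w₀ h)
  have hfx : ∀ a ∈ A, ∀ w ∈ (Fx (g * a) ⊓ W : Subgroup V), f w ∈ (Fx (g * a) ⊓ W1 : Subgroup V) := by
    rintro a ha w ⟨hwa, hwW⟩
    refine ⟨?_, w, hwW, rfl⟩
    show g ((a : MulAut V) (f w)) = f w
    rw [hfA a ha, hfg, show g ((a : MulAut V) w) = w from hwa]
  by_cases h0 : W0 = ⊥
  · -- `W` is the sum of the orbit
    have hkill : ∀ w ∈ W, (∀ C ∈ T, normMap C w = 1) → w = 1 := by
      intro w hw h
      have : w ∈ W0 := ⟨by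
        show f w = 1
        rw [hfdef]
        exact Finset.prod_eq_one h, hw⟩
      rwa [h0, Subgroup.mem_bot] at this
    by_cases hBfix : B.map σ.toMonoidHom = B
    · -- one orbit
      have hT1 : ∀ C ∈ T, C = B := by
        intro C hC
        obtain ⟨k, rfl⟩ := (Finset.mem_filter.1 hC).2
        exact Function.iterate_fixed hBfix k
      have hBtriv : ∀ w ∈ W, w ∈ fixIn W B := by
        refine fun w hw => ⟨hw, fun b hb => ?_⟩
        refine div_eq_one.1 (hkill _ (W.div_mem (hinv b b.2 w hw) hw) fun C hC => ?_)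
        rw [hT1 C hC, map_div, normMap_absorb B hb, div_self']
      obtain ⟨z, hzB⟩ : ∃ z : A, z ∉ B := by
        by_contra h
        push Not at h
        exact hw₀1 (hfix w₀ hw₀.1 fun a ha => hw₀.2 ⟨a, ha⟩ (h _))
      refine exists_pairing W g z z.2 fun w hw hzw => ?_
      have hlt : B < B ⊔ Subgroup.zpowers z := lt_of_le_of_ne le_sup_left fun h =>
        hzB (h ▸ Subgroup.mem_sup_right (Subgroup.mem_zpowers z))
      have hmem : w ∈ fixIn W (B ⊔ Subgroup.zpowers z) := by
        refine ⟨hw, ?_⟩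
        let St : Subgroup A :=
          { carrier := {a | ((a : A) : MulAut V) w = w}
            one_mem' := rfl
            mul_mem' := fun {a b} ha hb => by
              show (a : MulAut V) ((b : MulAut V) w) = w
              rw [show (b : MulAut V) w = w from hb, show (a : MulAut V) w = w from ha]
            inv_mem' := fun {a} ha => by
              show ((a : MulAut V)⁻¹) w = w
              conv_lhs => rw [← show (a : MulAut V) w = w from ha]
              exact MulAut.inv_apply_self V (a : MulAut V) w }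
        intro b hb
        exact (sup_le (fun x hx => (hBtriv w hw).2 x hx) (Subgroup.zpowers_le.2 hzw) :
          B ⊔ Subgroup.zpowers z ≤ St) hb
      rwa [hBtop _ hlt, Subgroup.mem_bot] at hmem
    · -- at least two
      set B' := B.map σ.toMonoidHom with hB'
      have hB'T : B' ∈ T := hTimage ▸ Finset.mem_image_of_mem _ hBT
      have hone : ∀ a : A, Nat.card (Fx (g * (a : MulAut V)) ⊓ W : Subgroup V) ≤ Nat.card (fixIn W B) := by
        intro a
        let X : Subgroup V := Fx (g * (a : MulAut V)) ⊓ W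
        let φ : X →* fixIn W B :=
          ((normMap B).comp X.subtype).codRestrict _ fun x => hnormfix B x x.2.2
        refine Nat.card_le_card_of_injective φ ((injective_iff_map_eq_one φ).2 fun x hx => ?_)
        have hx' : normMap B (x : V) = 1 := congrArg Subtype.val hx
        refine Subtype.ext (hkill x x.2.2 fun C hC => ?_)
        obtain ⟨k, rfl⟩ := (Finset.mem_filter.1 hC).2
        clear hC
        induction k with
        | zero => exact hx'
        | succ k ihk =>
          rw [Function.iterate_succ_apply']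
          have h1 := congrArg (fun v => g ((a : MulAut V) v)) ihk
          simp only [map_one] at h1
          rw [hcomm a a.2, hgnorm, show g ((a : MulAut V) (x : V)) = x from x.2.1] at h1
          exact h1
      let m : fixIn W B × fixIn W B' → W := fun p => ⟨p.1.1 * p.2.1, W.mul_mem p.1.2.1 p.2.2.1⟩
      have hm : Function.Injective m := by
        intro p q hpq
        have hpq' : p.1.1 * p.2.1 = q.1.1 * q.2.1 := congrArg Subtype.val hpq
        have hd : q.1.1⁻¹ * p.1.1 = q.2.1 * p.2.1⁻¹ := by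
          rw [eq_mul_inv_iff_mul_eq, mul_assoc, hpq', inv_mul_cancel_left]
        have hmem : q.1.1⁻¹ * p.1.1 = 1 := hdisj B' hB'T hBfix _
          ((fixIn W B).mul_mem ((fixIn W B).inv_mem q.1.2) p.1.2)
          (hd ▸ (fixIn W B').mul_mem q.2.2 ((fixIn W B').inv_mem p.2.2))
        have h1 : p.1.1 = q.1.1 := (inv_mul_eq_one.1 hmem).symm
        have h2 : p.2.1 = q.2.1 := by
          rw [h1] at hpq'
          exact mul_left_cancel hpq'
        exact Prod.ext (Subtype.ext h1) (Subtype.ext h2)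
      have hle : Nat.card (fixIn W B) ≤ Nat.card (fixIn W B') :=
        Nat.card_le_card_of_injective (fun w : fixIn W B => (⟨g w, hgfix B w w.2⟩ : fixIn W B'))
          fun x y h => Subtype.ext (g.injective (congrArg Subtype.val h))
      have hsq : Nat.card (fixIn W B) * Nat.card (fixIn W B) ≤ Nat.card W := by
        refine (Nat.mul_le_mul_left _ hle).trans ?_
        rw [← Nat.card_prod]
        exact Nat.card_le_card_of_injective m hm
      calc _ = ∏ a : A, Nat.card (Fx (g * (a : MulAut V)) ⊓ W : Subgroup V) ^ 2 :=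
            (Finset.prod_pow _ 2 _).symm
        _ ≤ ∏ _a : A, Nat.card W := Finset.prod_le_prod' fun a _ => by
            rw [sq]; exact (Nat.mul_le_mul (hone a) (hone a)).trans hsq
        _ = _ := by rw [Finset.prod_const, Finset.card_univ]
  · have h2 : 1 < Nat.card W0 := (Subgroup.one_lt_card_iff_ne_bot _).2 h0
    have h2' : 1 < Nat.card W1 := (Subgroup.one_lt_card_iff_ne_bot _).2 fun h => hfw₀ (by
      have : f w₀ ∈ W1 := ⟨w₀, hw₀.1, rfl⟩
      rwa [h, Subgroup.mem_bot] at this)
    have hW0lt : Nat.card W0 < Nat.card W := hcard ▸ lt_mul_of_one_lt_right Nat.card_pos h2'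
    have hW1lt : Nat.card W1 < Nat.card W := hcard ▸ lt_mul_of_one_lt_left Nat.card_pos h2
    have e0 := ih _ (hn ▸ hW0lt) W0 rfl
      (fun a ha w hw => ⟨show f ((a : MulAut V) w) = 1 by
        rw [← hfA a ha, show f w = 1 from hw.1, map_one], hinv a ha w hw.2⟩)
      (fun w hw => ⟨show f (g w) = 1 by rw [← hfg, show f w = 1 from hw.1, map_one], hginv w hw.2⟩)
      fun w hw h => hfix w hw.2 h
    have e1 := ih _ (hn ▸ hW1lt) W1 rfl
      (fun a ha w hw => by
        obtain ⟨v, hv, rfl⟩ := hw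
        exact ⟨(a : MulAut V) v, hinv a ha v hv, (hfA a ha v).symm⟩)
      (fun w hw => by
        obtain ⟨v, hv, rfl⟩ := hw
        exact ⟨g v, hginv v hv, (hfg v).symm⟩)
      fun w hw h => hfix w (hW1le hw) h
    have hstep : ∀ a : A, Nat.card (Fx (g * (a : MulAut V)) ⊓ W : Subgroup V) ≤
        Nat.card (Fx (g * (a : MulAut V)) ⊓ W0 : Subgroup V) *
        Nat.card (Fx (g * (a : MulAut V)) ⊓ W1 : Subgroup V) := by
      intro a
      refine (card_le_mul_image f (inf_le_right : Fx (g * (a : MulAut V)) ⊓ W ≤ W) (hfx a a.2)).trans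
        (le_of_eq ?_)
      rw [hW0, inf_left_comm]
    calc _ ≤ (∏ a : A, Nat.card (Fx (g * (a : MulAut V)) ⊓ W0 : Subgroup V) *
          Nat.card (Fx (g * (a : MulAut V)) ⊓ W1 : Subgroup V)) ^ 2 :=
          Nat.pow_le_pow_left (Finset.prod_le_prod' fun a _ => hstep a) 2
      _ ≤ Nat.card W0 ^ Fintype.card A * Nat.card W1 ^ Fintype.card A := by
          rw [Finset.prod_mul_distrib, mul_pow]; exact Nat.mul_le_mul e0 e1
      _ = _ := by rw [← mul_pow, hcard]

/-- A solvable irreducible nontrivial group has a fixed point free normal abelian subgroup of coprime order. -/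
theorem exists_free_normal_abelian {p d : ℕ} (hp : p.Prime) (hd : Nat.card V = p ^ d) (hd0 : d ≠ 0)
    (N : Subgroup (MulAut V)) [Finite N] (hsol : Group.IsSolvable N) (hirr : Irr N) (hN : N ≠ ⊥) :
    ∃ A : Subgroup (MulAut V), A ≤ N ∧ N ≤ Subgroup.normalizer (A : Set (MulAut V)) ∧
      (∀ a ∈ A, ∀ b ∈ A, a * b = b * a) ∧ (Nat.card A).Coprime (Nat.card V) ∧
      ∀ v : V, (∀ a ∈ A, (a : MulAut V) v = v) → v = 1 := by
  classical
  haveI : Fact p.Prime := ⟨hp⟩
  haveI : Nontrivial N := N.nontrivial_iff_ne_bot.2 hN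
  haveI := hsol
  obtain ⟨n, hn⟩ := Group.IsSolvable.solvable (G := N)
  have hex : ∃ k, derivedSeries N k = ⊥ := ⟨n, hn⟩
  set m := Nat.find hex with hm
  have hm0 : m ≠ 0 := fun h => by
    have h1 := Nat.find_spec hex
    rw [← hm, h, derivedSeries_zero] at h1
    exact top_ne_bot h1
  obtain ⟨k, hk⟩ := Nat.exists_eq_succ_of_ne_zero hm0
  set A0 := derivedSeries N k with hA0
  have hA0ne : A0 ≠ ⊥ := Nat.find_min hex (by omega)
  have hA0c : ∀ a ∈ A0, ∀ b ∈ A0, a * b = b * a := by
    have h1 : ⁅A0, A0⁆ = ⊥ := by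
      rw [hA0, ← derivedSeries_succ, show k + 1 = m from hk.symm]; exact Nat.find_spec hex
    exact fun a ha b hb => Subgroup.commutator_eq_bot_iff_le_centralizer.1 h1 hb a ha
  obtain ⟨r, hr, hrd⟩ := Nat.exists_prime_and_dvd (n := Nat.card A0)
    fun h => hA0ne (Subgroup.eq_bot_of_card_eq _ h)
  haveI := Fact.mk hr
  obtain ⟨x, hx⟩ := exists_prime_orderOf_dvd_card' r hrd
  let A1 : Subgroup N :=
    { carrier := {a | a ∈ A0 ∧ a ^ r = 1}
      one_mem' := ⟨A0.one_mem, one_pow r⟩
      mul_mem' := fun {a b} ha hb => ⟨A0.mul_mem ha.1 hb.1, by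
        rw [Commute.mul_pow (hA0c a ha.1 b hb.1), ha.2, hb.2, one_mul]⟩
      inv_mem' := fun {a} ha => ⟨A0.inv_mem ha.1, by rw [inv_pow, ha.2, inv_one]⟩ }
  haveI hA1n : A1.Normal := ⟨fun a ha y => ⟨(derivedSeries_normal (G := N) k).conj_mem a ha.1 y, by
    rw [conj_pow, ha.2, mul_one, mul_inv_cancel]⟩⟩
  have hA1ne : A1 ≠ ⊥ := fun h => by
    have hxm : (x : N) ∈ A1 := ⟨x.2, congrArg Subtype.val (hx ▸ pow_orderOf_eq_one x : x ^ r = 1)⟩
    rw [h, Subgroup.mem_bot] at hxm
    rw [← Subgroup.orderOf_coe, hxm, orderOf_one] at hx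
    exact hr.ne_one hx.symm
  let A : Subgroup (MulAut V) := A1.map N.subtype
  haveI : Finite A := Finite.of_injective (fun a : A => (⟨a.1, Subgroup.map_subtype_le A1 a.2⟩ : N))
    fun a b h => Subtype.ext (congrArg (fun t : N => (t : MulAut V)) h)
  have hNA : N ≤ Subgroup.normalizer (A : Set (MulAut V)) := by
    intro y hy
    rw [Subgroup.mem_normalizer_iff]
    intro b
    constructor
    · rintro ⟨a, ha, rfl⟩
      exact ⟨(⟨y, hy⟩ : N) * a * (⟨y, hy⟩ : N)⁻¹, hA1n.conj_mem a ha (⟨y, hy⟩ : N), rfl⟩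
    · rintro ⟨a, ha, hab⟩
      refine ⟨(⟨y, hy⟩ : N)⁻¹ * a * (⟨y, hy⟩ : N), ?_, ?_⟩
      · have := hA1n.conj_mem a ha (⟨y, hy⟩ : N)⁻¹
        rwa [inv_inv] at this
      show y⁻¹ * (a : MulAut V) * y = b
      rw [show (a : MulAut V) = y * b * y⁻¹ from hab]
      group
  let C : Subgroup V :=
    { carrier := {v | ∀ a ∈ A, (a : MulAut V) v = v}
      one_mem' := fun a _ => map_one a
      mul_mem' := fun hx hy a ha => by rw [map_mul, hx a ha, hy a ha]
      inv_mem' := fun hx a ha => by rw [map_inv, hx a ha] }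
  have hC : C = ⊥ := by
    refine (hirr C fun y hy v hv a ha => ?_).resolve_right fun htop => hA1ne ?_
    · have h1 := hv _ ((Subgroup.mem_normalizer_iff''.1 (hNA hy) a).1 ha)
      apply y.symm.injective
      rw [MulEquiv.symm_apply_apply]
      exact h1
    · refine (eq_bot_iff).2 fun a ha => Subgroup.mem_bot.2 (Subtype.ext ?_)
      refine MulEquiv.ext fun v => ?_
      exact (htop ▸ Subgroup.mem_top v : v ∈ C) _ ⟨a, ha, rfl⟩
  have hAr : IsPGroup r A := fun a => by
    obtain ⟨b, hb, hab⟩ := a.2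
    refine ⟨1, Subtype.ext ?_⟩
    rw [pow_one, SubgroupClass.coe_pow, ← hab, ← map_pow, hb.2, map_one]
    rfl
  have hrp : r ≠ p := by
    rintro rfl
    let _ : MulAction A V := MulAction.compHom V A.subtype
    obtain ⟨v, hv, hv1⟩ := hAr.exists_fixed_point_of_prime_dvd_card_of_fixed_point V
      (hd ▸ dvd_pow_self r hd0) (a := 1) (fun a => map_one (a : MulAut V))
    have : v ∈ C := fun a ha => hv ⟨a, ha⟩
    rw [hC, Subgroup.mem_bot] at this
    exact hv1 this.symm
  obtain ⟨i, hi⟩ := hAr.exists_card_eq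
  refine ⟨A, Subgroup.map_subtype_le A1, hNA, ?_, ?_, fun v hv => ?_⟩
  · rintro _ ⟨a, ha, rfl⟩ _ ⟨b, hb, rfl⟩
    exact congrArg Subtype.val (hA0c a ha.1 b hb.1)
  · rw [hi, hd]
    exact Nat.Coprime.pow _ _ ((Nat.coprime_primes hr hp).2 hrp)
  · have : v ∈ C := hv
    rwa [hC, Subgroup.mem_bot] at this

variable {G : Type*} [Group G] [Fintype G]

/-- The chief factor bound with constant one half. -/
theorem stepBound_solvable_half [Group.IsSolvable G] {p : ℕ} (hp : p.Prime) :
    StepBound G p ∅ 1 2 := by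
  classical
  intro L K _ _ V _ hV hc d hd
  letI : CommGroup V := { (inferInstance : Group V) with mul_comm := hc.is_comm.comm }
  intro hirr hne
  set ρ : G →* MulAut V := MulAut.conjNormal.comp (QuotientGroup.mk' L) with hρ
  refine ⟨fun y hy => hy.elim, ?_⟩
  haveI : Finite ρ.range :=
    Finite.of_surjective ρ.rangeRestrict ρ.rangeRestrict_surjective
  have hd0 : d ≠ 0 := by
    rintro rfl
    haveI : Subsingleton V := (Nat.card_eq_one_iff_unique.1 (by rw [hd, pow_zero])).1
    exact hne ((Subgroup.eq_bot_iff_forall _).2 fun a _ => MulEquiv.ext fun v => Subsingleton.elim _ _)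
  have hsol : Group.IsSolvable ρ.range :=
    Group.isSolvable_of_surjective ρ.rangeRestrict_surjective
  obtain ⟨A, hAN, hNA, hAc, hcop, hfree⟩ := exists_free_normal_abelian hp hd hd0 ρ.range hsol hirr hne
  haveI : Finite A := Finite.of_injective (fun a : A => (⟨a.1, hAN a.2⟩ : ρ.range))
    fun a b h => Subtype.ext (congrArg (fun t : ρ.range => (t : MulAut V)) h)
  haveI := Fintype.ofFinite A
  let c : G → ℕ := fun g => (Nat.card (Fx (ρ g))).factorization p
  have hc' : ∀ g, Nat.card (Fx (ρ g)) = p ^ c g := fun g => (card_Fx_eq_pow hp hd _).1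
  have hcd : ∀ g, c g ≤ d := fun g => (card_Fx_eq_pow hp hd _).2
  choose l hl using fun a : A => MonoidHom.mem_range.1 (hAN a.2)
  have h1 : ∀ g, 2 * ∑ a : A, c (g * l a) ≤ d * Fintype.card A := by
    intro g
    have h := prod_card_Fx_coset_sq_le A hAc hcop (ρ g) (hNA ⟨g, rfl⟩) _ ⊤ rfl
      (fun _ _ _ _ => Subgroup.mem_top _) (fun _ _ => Subgroup.mem_top _)
      (fun w _ hw => hfree w hw)
    simp only [inf_top_eq, Subgroup.card_top] at h
    rw [Finset.prod_congr rfl (g := fun a : A => p ^ c (g * l a))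
      (fun a _ => by rw [← hc', map_mul, hl]), Finset.prod_pow_eq_pow_sum, hd, ← pow_mul, ← pow_mul] at h
    have := (Nat.pow_le_pow_iff_right hp.one_lt).1 h
    omega
  have h2 : Fintype.card A * (2 * ∑ g : G, c g) ≤ Fintype.card A * (Nat.card G * d) := by
    have h : ∑ g : G, 2 * ∑ a : A, c (g * l a) ≤ ∑ _g : G, d * Fintype.card A :=
      Finset.sum_le_sum fun g _ => h1 g
    rw [← Finset.mul_sum, Finset.sum_comm, Finset.sum_const, Finset.card_univ,
      ← Nat.card_eq_fintype_card, smul_eq_mul] at h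
    have he : ∑ a : A, ∑ g : G, c (g * l a) = ∑ _a : A, ∑ g : G, c g :=
      Finset.sum_congr rfl fun a _ =>
        Fintype.sum_equiv (Equiv.mulRight (l a)) _ _ fun _ => rfl
    rw [he, Finset.sum_const, Finset.card_univ, smul_eq_mul] at h
    calc _ = 2 * (Fintype.card A * ∑ g : G, c g) := by ring
      _ ≤ _ := h
      _ = _ := by ring
  have h3 := Nat.le_of_mul_le_mul_left h2 Fintype.card_pos
  have h4 : ∑ g : G, (d - c g) + ∑ g : G, c g = Nat.card G * d := by
    rw [← Finset.sum_add_distrib, Finset.sum_congr rfl (g := fun _ => d)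
      (fun g _ => Nat.sub_add_cancel (hcd g)), Finset.sum_const, Finset.card_univ,
      ← Nat.card_eq_fintype_card, smul_eq_mul]
  change 1 * (d * Nat.card G) ≤ 2 * ∑ g : G, (d - c g)
  rw [one_mul, mul_comm d]
  omega

/-- In a solvable group the `p`-part of a primitive character degree divides that of some class size. -/
theorem exists_class_of_primitive [Group.IsSolvable G] (χ : Cfsg.IrrCharacter G)
    (hprim : ¬ ∃ (H : Subgroup G), H ≠ ⊤ ∧ ∃ θ : ↥H → ℂ, Cfsg.IsCharacter ↥H θ ∧
      Cfsg.indFun H θ = (χ : G → ℂ)) {p : ℕ} (hp : p.Prime) :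
    ∃ g : G, (Cfsg.charDegree (χ : G → ℂ)).factorization p ≤
      ((Subgroup.centralizer ({g} : Set G)).index).factorization p := by
  classical
  obtain ⟨g₀, hg⟩ := exists_elem χ hprim hp ∅ 1 2 (stepBound_solvable_half hp)
  refine ⟨g₀, ?_⟩
  have := hg g₀ (Or.inl rfl)
  omega

end CfsgLib.Char.Primitive
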