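import Cfsg.Agent.Lib.Char.Primitive.FixedAverage
import Cfsg.Agent.Lib.Char.CliffordCorr
import Cfsg.Agent.Lib.Char.FullyRamified.Basic
import Cfsg.Agent.Lib.Core.MinNormal
import Cfsg.Agent.S0887

/-!
# Degrees of primitive characters against class sizes

The prime part of the degree of a primitive character is bounded by half the dimensions of the
noncentral chief factors, and the prime part of a class size dominates the sum, over a chief series,
of the indices of the fixed points of the element.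
-/

set_option autoImplicit false

namespace CfsgLib.Char.Primitive

open CfsgLib.Char CfsgLib.Clifford

variable {G : Type*} [Group G] [Fintype G]

/-- The action on a normal section. -/
def act (L K : Subgroup G) [L.Normal] [K.Normal] :
    G →* MulAut (K.map (QuotientGroup.mk' L)) :=
  haveI : (K.map (QuotientGroup.mk' L)).Normal :=
    Subgroup.Normal.map inferInstance _ (QuotientGroup.mk'_surjective L)
  MulAut.conjNormal.comp (QuotientGroup.mk' L)

omit [Fintype G] in
theorem coe_act (L K : Subgroup G) [L.Normal] [K.Normal] (g : G)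
    (v : K.map (QuotientGroup.mk' L)) :
    ((act L K g v : K.map (QuotientGroup.mk' L)) : G ⧸ L) =
      QuotientGroup.mk' L g * v * (QuotientGroup.mk' L g)⁻¹ := rfl

omit [Fintype G] in
theorem card_mul_relIndex' {X Y : Subgroup G} (h : X ≤ Y) :
    Nat.card X * X.relIndex Y = Nat.card Y := by
  rw [← Subgroup.relIndex_bot_left, ← Subgroup.relIndex_bot_left,
    Subgroup.relIndex_mul_relIndex _ _ _ bot_le h]

/-- Indices of centralisers multiply along a normal section. -/
theorem relIndex_mul_dvd (L K : Subgroup G) [L.Normal] [K.Normal] (hLK : L ≤ K) (g : G) :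
    (Subgroup.centralizer ({g} : Set G)).relIndex L *
      (Subgroup.centralizer ({QuotientGroup.mk' L g} : Set (G ⧸ L))).relIndex
        (K.map (QuotientGroup.mk' L)) ∣ (Subgroup.centralizer ({g} : Set G)).relIndex K := by
  set C := Subgroup.centralizer ({g} : Set G) with hC
  set X := C ⊓ K with hX
  have h1 : X.relIndex (X ⊔ L) = C.relIndex L := by
    have e0 : C.relIndex L = X.relIndex L := by
      rw [← Subgroup.inf_relIndex_right C L, ← Subgroup.inf_relIndex_right X L, hX, inf_assoc,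
        inf_eq_right.2 hLK]
    rw [e0]
    have a := card_mul_relIndex' (le_sup_left : X ≤ X ⊔ L)
    have b := card_mul_relIndex' (le_sup_right : L ≤ X ⊔ L)
    rw [Subgroup.relIndex_sup_right] at b
    have c := card_mul_relIndex' (inf_le_left : X ⊓ L ≤ X)
    rw [Subgroup.inf_relIndex_left] at c
    have d := card_mul_relIndex' (inf_le_right : X ⊓ L ≤ L)
    rw [Subgroup.inf_relIndex_right] at d
    refine Nat.eq_of_mul_eq_mul_left (Nat.card_pos (α := X)) ?_
    rw [a, ← b, ← d, ← c]
    ring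
  have h2 : (Subgroup.centralizer ({QuotientGroup.mk' L g} : Set (G ⧸ L))).relIndex
      (K.map (QuotientGroup.mk' L)) ∣ (X ⊔ L).relIndex K := by
    rw [← Subgroup.relIndex_comap]
    refine Subgroup.relIndex_dvd_of_le_left K (sup_le ?_ ?_)
    · intro x hx
      rw [Subgroup.mem_comap, Subgroup.mem_centralizer_singleton_iff, ← map_mul, ← map_mul,
        Subgroup.mem_centralizer_singleton_iff.1 hx.1]
    · intro x hx
      rw [Subgroup.mem_comap, show QuotientGroup.mk' L x = 1 from (QuotientGroup.eq_one_iff x).2 hx]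
      exact one_mem _
  calc _ ∣ X.relIndex (X ⊔ L) * (X ⊔ L).relIndex K := by rw [h1]; exact Nat.mul_dvd_mul_left _ h2
    _ = X.relIndex K := Subgroup.relIndex_mul_relIndex _ _ _ le_sup_left (sup_le inf_le_right hLK)
    _ = C.relIndex K := Subgroup.inf_relIndex_right _ _

omit [Fintype G] in
theorem relIndex_ne_zero' {H : Type*} [Group H] [Finite H] {A B : Subgroup H} : A.relIndex B ≠ 0 :=
  Subgroup.index_ne_zero_of_finite (H := A.subgroupOf B)

/-- A primitive character restricts homogeneously to every normal subgroup. -/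
theorem exists_homogeneous (χ : Cfsg.IrrCharacter G)
    (hprim : ¬ ∃ (H : Subgroup G), H ≠ ⊤ ∧ ∃ θ : ↥H → ℂ, Cfsg.IsCharacter ↥H θ ∧
      Cfsg.indFun H θ = (χ : G → ℂ))
    (K : Subgroup G) [K.Normal] [Fintype K] :
    ∃ (a : ℕ) (θ : Cfsg.IrrCharacter K), ∀ x : K, (χ : G → ℂ) x = a * (θ : K → ℂ) x := by
  classical
  have hK : K.Normal := inferInstance
  have hr : Cfsg.IsCharacter K (fun x : K => (χ : G → ℂ) x) :=
    IsChar.restrict K (IsIrr.isCharacter χ.2)
  obtain ⟨θ, hθ⟩ := exists_constituent (IsChar.isClassFunction hr) (fun h => by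
    obtain ⟨n, hn, hn'⟩ := IsIrr.exists_degree χ.2
    have h1 := congrFun h (1 : K)
    simp only [OneMemClass.coe_one, Pi.zero_apply, hn'] at h1
    exact hn.ne' (by exact_mod_cast h1))
  obtain ⟨a, ha⟩ := IsChar.classInner_eq_natCast hr (IsIrr.isCharacter θ.2)
  set T := inertia hK (θ : K → ℂ) with hT
  have hTtop : T = ⊤ := by
    by_contra hne
    obtain ⟨ψ, hψ, -, -, hind⟩ := exists_over_inertia hK θ.2 (T := T)
      (fun g => mem_inertia) (le_inertia hK (IsIrr.isClassFunction θ.2)) χ hθ
    exact hprim ⟨T, hne, ψ, IsIrr.isCharacter hψ, hind⟩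
  refine ⟨a, θ, fun x => ?_⟩
  have h := congrFun (restrict_eq_smul_orbit_sum hK χ.2 θ.2 hθ) x
  have hone : Finset.univ.image (conjFn hK (θ : K → ℂ)) = {(θ : K → ℂ)} := by
    ext ψ
    rw [Finset.mem_image, Finset.mem_singleton]
    refine ⟨?_, fun h => ⟨1, Finset.mem_univ _, by rw [conjFn_one, h]⟩⟩
    rintro ⟨g, -, rfl⟩
    exact mem_inertia.1 (by rw [← hT, hTtop]; exact Subgroup.mem_top g)
  rw [Pi.smul_apply, ha, smul_eq_mul] at h
  refine h.trans (congrArg _ ?_)
  rw [Finset.sum_apply]
  convert Finset.sum_singleton (fun ψ : K → ℂ => ψ x) (θ : K → ℂ) using 2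

/-- Degrees over a normal section: the ratio divides the index and its square is at most it. -/
theorem degree_step (χ : Cfsg.IrrCharacter G) {L K : Subgroup G} [L.Normal] [Fintype L] [Fintype K]
    (hLK : L ≤ K) {a b : ℕ} (θ : Cfsg.IrrCharacter K) (φ : Cfsg.IrrCharacter L)
    (ha : ∀ x : K, (χ : G → ℂ) x = a * (θ : K → ℂ) x)
    (hb : ∀ x : L, (χ : G → ℂ) x = b * (φ : L → ℂ) x) {n m : ℕ}
    (hn : (θ : K → ℂ) 1 = n) (hm : (φ : L → ℂ) 1 = m) :
    ∃ e, n = e * m ∧ e ∣ L.relIndex K ∧ e ^ 2 ≤ L.relIndex K := by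
  classical
  set Z := L.subgroupOf K with hZ
  haveI : Z.Normal := ‹L.Normal›.subgroupOf K
  haveI := Fintype.ofFinite Z
  let j : Z ≃* L := Subgroup.subgroupOfEquivOfLe hLK
  let φ' : Cfsg.IrrCharacter Z := ⟨_, IsIrr.comp_surjective j.toMonoidHom j.surjective φ.2⟩
  obtain ⟨c, hc, hc'⟩ := IsIrr.exists_degree χ.2
  have hca := ha 1
  have hcb := hb 1
  rw [OneMemClass.coe_one, hc'] at hca hcb
  rw [hn] at hca
  rw [hm] at hcb
  have ha0 : (a : ℂ) ≠ 0 := fun h => hc.ne' (by
    rw [h, zero_mul] at hca; exact_mod_cast hca)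
  have hb0 : (b : ℂ) ≠ 0 := fun h => hc.ne' (by
    rw [h, zero_mul] at hcb; exact_mod_cast hcb)
  have hres : (fun z : Z => (θ : K → ℂ) z) = ((b : ℂ) / a) • (φ' : Z → ℂ) := by
    funext z
    show (θ : K → ℂ) z = (b / a : ℂ) * (φ : L → ℂ) (j z)
    have h1 := ha z
    have h2 : (χ : G → ℂ) ((z : K) : G) = b * (φ : L → ℂ) (j z) := hb (j z)
    rw [h2] at h1
    field_simp
    linear_combination -h1
  have hcon : Cfsg.classInner (fun z : Z => (θ : K → ℂ) z) (φ' : Z → ℂ) ≠ 0 := by
    rw [hres, classInner_smul_left, classInner_irr_self, mul_one]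
    exact div_ne_zero hb0 ha0
  have hm' : (φ' : Z → ℂ) 1 = m := by
    show (φ : L → ℂ) (j 1) = m
    rw [map_one, hm]
  obtain ⟨⟨e, he⟩, hdvd⟩ := Cfsg.Agent.S0887.result Z (θ : K → ℂ) θ.2 (φ' : Z → ℂ) φ'.2 hcon n m hn hm'
  have hm0 : 0 < m := by
    obtain ⟨k, hk, hk'⟩ := IsIrr.exists_degree φ.2
    have h : m = k := by exact_mod_cast hm.symm.trans hk'
    omega
  rw [he, Nat.mul_div_cancel_left _ hm0] at hdvd
  refine ⟨e, by rw [he, mul_comm], hdvd, ?_⟩
  refine (CfsgLib.FullyRamified.sq_le_and_vanish (θ := φ') θ e fun z => ?_).1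
  have h1 := congrFun hres 1
  simp only [OneMemClass.coe_one, Pi.smul_apply, smul_eq_mul, hn, hm', he, Nat.cast_mul] at h1
  have hba : ((b : ℂ) / a) = e :=
    mul_right_cancel₀ (Nat.cast_ne_zero.2 hm0.ne' : (m : ℂ) ≠ 0) (by linear_combination -h1)
  rw [← hba]
  exact congrFun hres z

theorem two_mul_le_of_sq_le {r d e : ℕ} (hr : r.Prime) (he : e ∣ r ^ d) (hsq : e ^ 2 ≤ r ^ d) :
    ∃ i, e = r ^ i ∧ 2 * i ≤ d := by
  obtain ⟨i, -, rfl⟩ := (Nat.dvd_prime_pow hr).1 he
  refine ⟨i, rfl, ?_⟩
  rw [← pow_mul] at hsq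
  have := (Nat.pow_le_pow_iff_right hr.one_lt).1 hsq
  omega

/-- The fixed points in a section are the centraliser. -/
theorem card_Fx_act_mul (L K : Subgroup G) [L.Normal] [K.Normal]
    [hc : IsMulCommutative (K.map (QuotientGroup.mk' L))] (g : G) :
    letI : CommGroup (K.map (QuotientGroup.mk' L)) :=
      { (inferInstance : Group (K.map (QuotientGroup.mk' L))) with mul_comm := hc.is_comm.comm }
    Nat.card (Fx (act L K g)) *
      (Subgroup.centralizer ({QuotientGroup.mk' L g} : Set (G ⧸ L))).relIndex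
        (K.map (QuotientGroup.mk' L)) = Nat.card (K.map (QuotientGroup.mk' L)) := by
  letI : CommGroup (K.map (QuotientGroup.mk' L)) :=
    { (inferInstance : Group (K.map (QuotientGroup.mk' L))) with mul_comm := hc.is_comm.comm }
  have h : Fx (act L K g) = (Subgroup.centralizer ({QuotientGroup.mk' L g} : Set (G ⧸ L))).subgroupOf
      (K.map (QuotientGroup.mk' L)) := by
    ext v
    rw [mem_Fx, Subtype.ext_iff, coe_act, Subgroup.mem_subgroupOf,
      Subgroup.mem_centralizer_singleton_iff, mul_inv_eq_iff_eq_mul]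
    exact eq_comm
  rw [h]
  exact Subgroup.card_mul_index _

/-- What is needed from each noncentral chief factor of `p`-power order. -/
def StepBound (G : Type*) [Group G] [Fintype G] (p : ℕ) (Y : Set G) (α β : ℕ) : Prop :=
  ∀ (L K : Subgroup G) [L.Normal] [K.Normal] (V : Subgroup (G ⧸ L)) [V.Normal]
    (_ : V = K.map (QuotientGroup.mk' L)) [hc : IsMulCommutative V] (d : ℕ),
    Nat.card V = p ^ d →
    letI : CommGroup V := { (inferInstance : Group V) with mul_comm := hc.is_comm.comm }
    Irr (MulAut.conjNormal.comp (QuotientGroup.mk' L) : G →* MulAut V).range →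
    (MulAut.conjNormal.comp (QuotientGroup.mk' L) : G →* MulAut V).range ≠ ⊥ →
    (∀ y ∈ Y, (MulAut.conjNormal.comp (QuotientGroup.mk' L) : G →* MulAut V) y = 1) ∧
      α * (d * Nat.card G) ≤ β * ∑ g : G,
        (d - (Nat.card (Fx ((MulAut.conjNormal.comp (QuotientGroup.mk' L) : G →* MulAut V) g))).factorization p)

/-- The main recursion along a chief series. -/
theorem exists_bound [Group.IsSolvable G] (χ : Cfsg.IrrCharacter G)
    (hprim : ¬ ∃ (H : Subgroup G), H ≠ ⊤ ∧ ∃ θ : ↥H → ℂ, Cfsg.IsCharacter ↥H θ ∧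
      Cfsg.indFun H θ = (χ : G → ℂ))
    {p : ℕ} (hp : p.Prime) (Y : Set G) (α β : ℕ) (hstep : StepBound G p Y α β) :
    ∀ (n : ℕ) (K : Subgroup G) [K.Normal] [Fintype K], Nat.card K ≤ n →
      ∀ (a : ℕ) (θ : Cfsg.IrrCharacter K), (∀ x : K, (χ : G → ℂ) x = a * (θ : K → ℂ) x) →
      ∀ t : ℕ, (θ : K → ℂ) 1 = t →
      ∃ f : G → ℕ, (∀ g, f g ≤ ((Subgroup.centralizer ({g} : Set G)).relIndex K).factorization p) ∧
        (∀ g, ∀ y ∈ Y, f (g * y) = f g) ∧
        2 * α * (t.factorization p * Nat.card G) ≤ β * ∑ g : G, f g := by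
  classical
  intro n
  induction n with
  | zero => intro K _ _ hK; exact absurd hK (by simp [Nat.card_pos.ne'])
  | succ n ih =>
  intro K _ _ hcard a θ ha t ht
  by_cases hK : K = ⊥
  · subst hK
    refine ⟨fun _ => 0, fun _ => Nat.zero_le _, fun _ _ _ => rfl, ?_⟩
    have h := classInner_irr_self θ
    rw [Cfsg.classInner, Subgroup.card_bot, Fintype.sum_unique, Nat.cast_one, inv_one, one_mul,
      show (default : (⊥ : Subgroup G)) = 1 from Subsingleton.elim _ _, ht,
      Complex.conj_natCast] at h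
    have ht1 : t = 1 := Nat.eq_one_of_mul_eq_one_right (by exact_mod_cast h : t * t = 1)
    simp [ht1]
  obtain ⟨L, ⟨⟨hLn, hLlt⟩, hLmax⟩⟩ :=
    Set.Finite.exists_maximal (s := {L : Subgroup G | L.Normal ∧ L < K}) (Set.toFinite _)
      ⟨⊥, inferInstance, bot_lt_iff_ne_bot.2 hK⟩
  haveI := hLn
  haveI := Fintype.ofFinite L
  set π := QuotientGroup.mk' L with hπ
  have hπs : Function.Surjective π := QuotientGroup.mk'_surjective L
  set V := K.map π with hV
  haveI hVn : V.Normal := Subgroup.Normal.map inferInstance _ hπs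
  have hV0 : V ≠ ⊥ := fun h => not_le_of_gt hLlt (by
    rw [hV, Subgroup.map_eq_bot_iff, QuotientGroup.ker_mk'] at h; exact h)
  have hVmin : ∀ M : Subgroup (G ⧸ L), M.Normal → M ≤ V → M = ⊥ ∨ M = V := by
    intro M hM hMV
    have hle : L ≤ M.comap π := (QuotientGroup.ker_mk' L).symm.le.trans (π.ker_le_comap M)
    have hMK : M.comap π ≤ K := by
      refine (Subgroup.comap_mono hMV).trans (le_of_eq ?_)
      rw [hV, Subgroup.comap_map_eq, QuotientGroup.ker_mk', sup_eq_left.2 hLlt.le]
    by_cases hKM : M.comap π = K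
    · exact Or.inr (by rw [hV, ← hKM, Subgroup.map_comap_eq_self_of_surjective hπs])
    · refine Or.inl (Subgroup.comap_injective hπs ?_)
      rw [MonoidHom.comap_bot, QuotientGroup.ker_mk']
      exact le_antisymm (hLmax ⟨hM.comap π, lt_of_le_of_ne hMK hKM⟩ hle) hle
  haveI : Group.IsSolvable (G ⧸ L) := Group.isSolvable_of_surjective hπs
  obtain ⟨r, hr, hVr, hVc, -⟩ := CfsgLib.Core.isPGroup_of_minimal_normal V inferInstance hV0 hVmin
  haveI := Fact.mk hr
  obtain ⟨d, hd⟩ := hVr.exists_card_eq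
  have hidx : L.relIndex K = r ^ d := by
    rw [← hd, ← Subgroup.relIndex_bot_left, hV, ← Subgroup.relIndex_comap, MonoidHom.comap_bot,
      QuotientGroup.ker_mk']
  obtain ⟨b, φ, hb⟩ := exists_homogeneous χ hprim L
  obtain ⟨m, hm0, hm⟩ := IsIrr.exists_degree φ.2
  obtain ⟨e, he, hedvd, hesq⟩ := degree_step χ hLlt.le θ φ ha hb ht hm
  rw [hidx] at hedvd hesq
  obtain ⟨i, rfl, hid⟩ := two_mul_le_of_sq_le hr hedvd hesq
  have hLcard : Nat.card L ≤ n := by
    have h2 : Nat.card L < Nat.card K := by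
      refine lt_of_le_of_ne (Subgroup.card_le_of_le hLlt.le) fun h => hLlt.ne ?_
      exact Subgroup.eq_of_le_of_card_ge hLlt.le h.ge
    omega
  obtain ⟨f, hf1, hf2, hf3⟩ := ih L hLcard b φ hb m hm
  have hdvd : ∀ g : G, (Subgroup.centralizer ({g} : Set G)).relIndex L ∣
      (Subgroup.centralizer ({g} : Set G)).relIndex K := fun g =>
    (Dvd.intro _ rfl).trans (relIndex_mul_dvd L K hLlt.le g)
  have hfK : ∀ g, f g ≤ ((Subgroup.centralizer ({g} : Set G)).relIndex K).factorization p := fun g =>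
    (hf1 g).trans ((Nat.factorization_le_iff_dvd relIndex_ne_zero'
      relIndex_ne_zero').2 (hdvd g) p)
  have htm : t.factorization p = (r ^ i).factorization p + m.factorization p := by
    rw [he, Nat.factorization_mul (pow_pos hr.pos i).ne' hm0.ne', Finsupp.add_apply]
  by_cases hcase : r = p ∧ 2 ≤ d
  · obtain ⟨rfl, hd2⟩ := hcase
    haveI := hVc
    letI : CommGroup V := { (inferInstance : Group V) with mul_comm := hVc.is_comm.comm }
    set ρ : G →* MulAut V := MulAut.conjNormal.comp π with hρ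
    have hirr : Irr ρ.range := by
      intro W hW
      have hWn : (W.map V.subtype).Normal := by
        refine ⟨?_⟩
        rintro _ ⟨w, hw, rfl⟩ x
        obtain ⟨g, rfl⟩ := hπs x
        exact ⟨ρ g w, hW _ ⟨g, rfl⟩ w hw, rfl⟩
      rcases hVmin _ hWn (Subgroup.map_subtype_le W) with h | h
      · exact Or.inl ((Subgroup.map_eq_bot_iff_of_injective _ V.subtype_injective).1 h)
      · refine Or.inr (Subgroup.map_injective V.subtype_injective (h.trans ?_))
        rw [← MonoidHom.range_eq_map, V.range_subtype]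
    have hne : ρ.range ≠ ⊥ := by
      intro h
      obtain ⟨x, hx⟩ := exists_prime_orderOf_dvd_card' (G := V) r
        (hd ▸ dvd_pow_self r (by omega))
      rcases hirr (Subgroup.zpowers x) (fun N hN w hw => by
        rw [h, Subgroup.mem_bot] at hN; subst hN; exact hw) with h' | h'
      · rw [Subgroup.zpowers_eq_bot] at h'
        rw [h', orderOf_one] at hx
        exact hr.ne_one hx.symm
      · have h2 := congrArg (fun H : Subgroup V => Nat.card H) h'
        simp only [Nat.card_zpowers, hx, Subgroup.card_top, hd] at h2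
        have := Nat.pow_right_injective hr.two_le ((pow_one r).trans h2)
        omega
    obtain ⟨htriv, hsum⟩ := hstep L K V hV d hd hirr hne
    let δ : G → ℕ := fun g => d - (Nat.card (Fx (ρ g))).factorization r
    refine ⟨fun g => f g + δ g, fun g => ?_, fun g y hy => ?_, ?_⟩
    · set c := (Subgroup.centralizer ({π g} : Set (G ⧸ L))).relIndex V with hc
      have hcd : Nat.card (Fx (ρ g)) * c = Nat.card V := card_Fx_act_mul L K g
      have hc0 : c ≠ 0 := relIndex_ne_zero'
      have h1 : (Nat.card (Fx (ρ g))).factorization r + c.factorization r = d := by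
        have h := congrArg (fun z => Nat.factorization z r) hcd
        simp only [Nat.factorization_mul (Nat.card_pos (α := Fx (ρ g))).ne' hc0, Finsupp.add_apply,
          hd, Nat.factorization_pow, Finsupp.smul_apply, hr.factorization_self, smul_eq_mul,
          mul_one] at h
        exact h
      have h2 := (Nat.factorization_le_iff_dvd (Nat.mul_ne_zero relIndex_ne_zero' hc0)
        relIndex_ne_zero').2 (relIndex_mul_dvd L K hLlt.le g) r
      rw [Nat.factorization_mul relIndex_ne_zero' hc0, Finsupp.add_apply] at h2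
      have := hf1 g
      simp only [δ]
      omega
    · simp only [δ, map_mul, htriv y hy, mul_one, hf2 g y hy]
      rw [show ρ y = 1 from htriv y hy, mul_one]
    · rw [Finset.sum_add_distrib, mul_add]
      have h3 : 2 * α * ((r ^ i).factorization r * Nat.card G) ≤ α * (d * Nat.card G) := by
        rw [Nat.factorization_pow, Finsupp.smul_apply, hr.factorization_self, smul_eq_mul, mul_one]
        calc _ = α * (2 * i * Nat.card G) := by ring
          _ ≤ _ := Nat.mul_le_mul_left _ (Nat.mul_le_mul_right _ hid)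
      rw [htm, add_mul, mul_add]
      rw [add_comm]
      exact Nat.add_le_add hf3 (h3.trans hsum)
  · refine ⟨f, hfK, hf2, ?_⟩
    have h0 : (r ^ i).factorization p = 0 := by
      rw [Nat.factorization_pow, Finsupp.smul_apply, smul_eq_mul]
      rcases eq_or_ne r p with h | h
      · rw [show i = 0 by have : ¬ 2 ≤ d := fun h2 => hcase ⟨h, h2⟩; omega, zero_mul]
      · rw [hr.factorization, Finsupp.single_eq_of_ne (Ne.symm h), mul_zero]
    rwa [htm, h0, zero_add]

/-- Some element moves enough of every relevant chief factor. -/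
theorem exists_elem [Group.IsSolvable G] (χ : Cfsg.IrrCharacter G)
    (hprim : ¬ ∃ (H : Subgroup G), H ≠ ⊤ ∧ ∃ θ : ↥H → ℂ, Cfsg.IsCharacter ↥H θ ∧
      Cfsg.indFun H θ = (χ : G → ℂ))
    {p : ℕ} (hp : p.Prime) (Y : Set G) (α β : ℕ) (hstep : StepBound G p Y α β) :
    ∃ g₀ : G, ∀ g : G, (g = g₀ ∨ ∃ y ∈ Y, g = g₀ * y) →
      2 * α * (Cfsg.charDegree (χ : G → ℂ)).factorization p ≤
        β * ((Subgroup.centralizer ({g} : Set G)).index).factorization p := by
  classical
  haveI : Fintype (⊤ : Subgroup G) := Fintype.ofFinite _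
  obtain ⟨a, θ, ha⟩ := exists_homogeneous χ hprim ⊤
  obtain ⟨t, ht0, ht⟩ := IsIrr.exists_degree θ.2
  obtain ⟨f, hf1, hf2, hf3⟩ := exists_bound χ hprim hp Y α β hstep _ ⊤ le_rfl a θ ha t ht
  -- the multiplicity on the whole group is one
  have hirr : Cfsg.IsIrrCharacter G fun x : G => (θ : (⊤ : Subgroup G) → ℂ) (Subgroup.topEquiv.symm x) :=
    IsIrr.comp_surjective (Subgroup.topEquiv (G := G)).symm.toMonoidHom (Subgroup.topEquiv (G := G)).symm.surjective θ.2
  let θ' : Cfsg.IrrCharacter G := ⟨_, hirr⟩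
  have hχ : (χ : G → ℂ) = (a : ℂ) • (θ' : G → ℂ) := funext fun x =>
    ha (Subgroup.topEquiv.symm x)
  have heq : χ = θ' := by
    by_contra hne
    have h := classInner_irr_self χ
    nth_rw 1 [hχ] at h
    rw [classInner_smul_left, classInner_irr_of_ne (Ne.symm hne), mul_zero] at h
    exact zero_ne_one h
  have hdeg : Cfsg.charDegree (χ : G → ℂ) = t := by
    rw [Cfsg.charDegree]
    have h1 : (χ : G → ℂ) 1 = t := by
      rw [heq]
      show (θ : (⊤ : Subgroup G) → ℂ) (Subgroup.topEquiv.symm 1) = t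
      rw [map_one, ht]
    rw [h1]
    simp
  obtain ⟨g₀, -, hg₀⟩ := Finset.exists_le_of_sum_le Finset.univ_nonempty
    (f := fun _ : G => 2 * α * t.factorization p) (g := fun g => β * f g) (by
      rw [Finset.sum_const, Finset.card_univ, ← Nat.card_eq_fintype_card, smul_eq_mul,
        ← Finset.mul_sum]
      calc _ = 2 * α * (t.factorization p * Nat.card G) := by ring
        _ ≤ _ := hf3)
  refine ⟨g₀, fun g hg => ?_⟩
  have hfg : f g = f g₀ := by
    rcases hg with rfl | ⟨y, hy, rfl⟩
    · rfl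
    · exact hf2 g₀ y hy
  rw [hdeg]
  refine hg₀.trans (Nat.mul_le_mul_left β ?_)
  rw [← hfg, ← Subgroup.relIndex_top_right]
  exact hf1 g

end CfsgLib.Char.Primitive
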