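import Mathlib

/-!
# Averages of fixed point dimensions for irreducible actions on abelian groups
-/

set_option autoImplicit false

namespace CfsgLib.Char.Primitive

variable {V : Type*} [CommGroup V] [Finite V]

/-- The fixed points of an automorphism. -/
def Fx (a : MulAut V) : Subgroup V := a.toMonoidHom.eqLocus (MonoidHom.id V)

omit [Finite V] in
theorem mem_Fx {a : MulAut V} {v : V} : v ∈ Fx a ↔ a v = v := Iff.rfl

omit [Finite V] in
theorem Fx_one : Fx (1 : MulAut V) = ⊤ := top_le_iff.1 fun _ _ => rfl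

omit [Finite V] in
theorem Fx_inf_mul_le (g a : MulAut V) : Fx g ⊓ Fx (g * a) ≤ Fx a := by
  rintro v ⟨h1, h2⟩
  rw [mem_Fx]
  have h2' : g (a v) = v := h2
  exact g.injective (h2'.trans (Eq.symm h1))

/-- A set of automorphisms preserves only the trivial subgroups. -/
def Irr (N : Subgroup (MulAut V)) : Prop :=
  ∀ W : Subgroup V, (∀ n ∈ N, ∀ w ∈ W, (n : MulAut V) w ∈ W) → W = ⊥ ∨ W = ⊤

theorem card_le_mul_image {W X I : Subgroup V} (f : V →* V) (hXW : X ≤ W)
    (hI : ∀ x ∈ X, f x ∈ I) :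
    Nat.card X ≤ Nat.card (f.ker ⊓ X : Subgroup V) * Nat.card I := by
  let φ : X →* I := (f.comp X.subtype).codRestrict I fun x => hI x x.2
  have h := Subgroup.card_mul_index φ.ker
  rw [Subgroup.index_ker] at h
  rw [← h]
  refine Nat.mul_le_mul (le_of_eq (Nat.card_congr ?_)) (Subgroup.card_le_card_group _)
  exact
    { toFun := fun x => ⟨x.1.1, congrArg Subtype.val (show φ x.1 = 1 from x.2), x.1.2⟩
      invFun := fun v => ⟨⟨v.1, v.2.2⟩, Subtype.ext v.2.1⟩
      left_inv := fun _ => rfl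
      right_inv := fun _ => rfl }

/-- An abelian group of automorphisms without fixed points: on average half of the group is moved. -/
theorem prod_card_Fx_sq_le (A : Subgroup (MulAut V)) [Fintype A]
    (hA : ∀ a ∈ A, ∀ b ∈ A, a * b = b * a) :
    ∀ n : ℕ, ∀ W : Subgroup V, Nat.card W = n → (∀ a ∈ A, ∀ w ∈ W, (a : MulAut V) w ∈ W) →
      (∀ w ∈ W, (∀ a ∈ A, (a : MulAut V) w = w) → w = 1) →
      (∏ a : A, Nat.card (Fx (a : MulAut V) ⊓ W : Subgroup V)) ^ 2 ≤
        Nat.card W ^ Fintype.card A := by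
  classical
  intro n
  induction n using Nat.strong_induction_on with
  | _ n ih =>
  intro W hn hinv hfix
  by_cases hW : W = ⊥
  · subst hW
    simp
  obtain ⟨w₀, hw₀, hw₀1⟩ : ∃ w ∈ W, w ≠ 1 := by
    by_contra h
    push Not at h
    exact hW (eq_bot_iff.2 fun w hw => h w hw)
  obtain ⟨z, hz, hzw⟩ : ∃ z ∈ A, (z : MulAut V) w₀ ≠ w₀ := by
    by_contra h
    push Not at h
    exact hw₀1 (hfix w₀ hw₀ h)
  have hcomm : ∀ a ∈ A, ∀ v, (a : MulAut V) (z v) = z (a v) := fun a ha v =>
    congrArg (fun e : MulAut V => e v) (hA a ha z hz)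
  let f : V →* V :=
    { toFun := fun v => z v / v
      map_one' := by simp
      map_mul' := fun a b => by simp [mul_div_mul_comm] }
  have hker : f.ker = Fx z := by
    ext v
    show z v / v = 1 ↔ z v = v
    exact div_eq_one
  have hfW : ∀ w ∈ W, f w ∈ W := fun w hw => W.div_mem (hinv z hz w hw) hw
  set W0 := Fx z ⊓ W with hW0
  set W1 := W.map f with hW1
  have hW1le : W1 ≤ W := by rintro _ ⟨w, hw, rfl⟩; exact hfW w hw
  have hcard : Nat.card W0 * Nat.card W1 = Nat.card W := by
    have h := Subgroup.card_mul_index (f.comp W.subtype).ker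
    rw [Subgroup.index_ker, MonoidHom.range_comp, W.range_subtype] at h
    rw [← h, mul_comm, mul_comm (Nat.card (f.comp W.subtype).ker)]
    refine congrArg _ (Nat.card_congr ?_)
    exact
      { toFun := fun v => ⟨⟨v.1, v.2.2⟩, show f v.1 = 1 from by
          rw [← MonoidHom.mem_ker, hker]; exact v.2.1⟩
        invFun := fun x => ⟨x.1.1, by rw [← hker]; exact x.2, x.1.2⟩
        left_inv := fun _ => rfl
        right_inv := fun _ => rfl }
  have hW0lt : Nat.card W0 < Nat.card W := by
    refine lt_of_le_of_ne (Subgroup.card_le_of_le inf_le_right) fun h => hzw ?_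
    exact (inf_eq_right.1 (Subgroup.eq_of_le_of_card_ge (inf_le_right (a := Fx z)) h.ge)) hw₀
  have hfx : ∀ a ∈ A, ∀ w ∈ (Fx a ⊓ W : Subgroup V), f w ∈ (Fx a ⊓ W1 : Subgroup V) := by
    rintro a ha w ⟨hwa, hwW⟩
    refine ⟨?_, w, hwW, rfl⟩
    show (a : MulAut V) (z w / w) = z w / w
    rw [map_div, hcomm a ha, show (a : MulAut V) w = w from hwa]
  by_cases h0 : W0 = ⊥
  · -- `z` is fixed point free on `W`
    have hpair : ∀ a : A, Nat.card (Fx (a : MulAut V) ⊓ W : Subgroup V) *
        Nat.card (Fx ((a * ⟨z, hz⟩ : A) : MulAut V) ⊓ W : Subgroup V) ≤ Nat.card W := by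
      intro a
      let X : Subgroup V := Fx (a : MulAut V) ⊓ W
      let Y : Subgroup V := Fx ((a * ⟨z, hz⟩ : A) : MulAut V) ⊓ W
      let m : X × Y → W := fun p => ⟨p.1.1 * p.2.1, W.mul_mem p.1.2.2 p.2.2.2⟩
      have hm : Function.Injective m := by
        intro p q hpq
        have hpq' : p.1.1 * p.2.1 = q.1.1 * q.2.1 := congrArg Subtype.val hpq
        have hd : q.1.1⁻¹ * p.1.1 = q.2.1 * p.2.1⁻¹ := by
          rw [eq_mul_inv_iff_mul_eq, mul_assoc, hpq', inv_mul_cancel_left]
        have hmem : q.1.1⁻¹ * p.1.1 ∈ W0 := by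
          refine ⟨Fx_inf_mul_le (a : MulAut V) z ⟨?_, ?_⟩, ?_⟩
          · exact (Fx (a : MulAut V)).mul_mem ((Fx (a : MulAut V)).inv_mem q.1.2.1) p.1.2.1
          · rw [hd]
            exact (Fx ((a : MulAut V) * z)).mul_mem q.2.2.1 ((Fx ((a : MulAut V) * z)).inv_mem p.2.2.1)
          · exact W.mul_mem (W.inv_mem q.1.2.2) p.1.2.2
        rw [h0, Subgroup.mem_bot] at hmem
        have h1 : p.1.1 = q.1.1 := (inv_mul_eq_one.1 hmem).symm
        have h2 : p.2.1 = q.2.1 := by
          rw [h1] at hpq'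
          exact mul_left_cancel hpq'
        exact Prod.ext (Subtype.ext h1) (Subtype.ext h2)
      calc _ = Nat.card (X × Y) := (Nat.card_prod _ _).symm
        _ ≤ Nat.card W := Nat.card_le_card_of_injective m hm
    calc _ = (∏ a : A, Nat.card (Fx (a : MulAut V) ⊓ W : Subgroup V)) *
          ∏ a : A, Nat.card (Fx ((a * ⟨z, hz⟩ : A) : MulAut V) ⊓ W : Subgroup V) := by
            rw [sq]
            refine congrArg _ (Eq.symm ?_)
            exact Fintype.prod_equiv (Equiv.mulRight (⟨z, hz⟩ : A)) _ _ fun _ => rfl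
      _ = ∏ a : A, _ := Finset.prod_mul_distrib.symm
      _ ≤ ∏ _a : A, Nat.card W := Finset.prod_le_prod' fun a _ => hpair a
      _ = _ := by rw [Finset.prod_const, Finset.card_univ]
  · have hW1lt : Nat.card W1 < Nat.card W := by
      have h2 : 1 < Nat.card W0 := (Subgroup.one_lt_card_iff_ne_bot _).2 h0
      have h3 : 0 < Nat.card W1 := Nat.card_pos
      calc Nat.card W1 < Nat.card W0 * Nat.card W1 := lt_mul_of_one_lt_left h3 h2
        _ = _ := hcard
    have e0 := ih _ (hn ▸ hW0lt) W0 rfl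
      (fun a ha w hw => ⟨show z ((a : MulAut V) w) = a w by
        rw [← hcomm a ha, show z w = w from hw.1], hinv a ha w hw.2⟩)
      fun w hw h => hfix w hw.2 h
    have e1 := ih _ (hn ▸ hW1lt) W1 rfl
      (fun a ha w hw => by
        obtain ⟨v, hv, rfl⟩ := hw
        refine ⟨(a : MulAut V) v, hinv a ha v hv, ?_⟩
        show z ((a : MulAut V) v) / a v = (a : MulAut V) (z v / v)
        rw [map_div, hcomm a ha])
      fun w hw h => hfix w (hW1le hw) h
    have hstep : ∀ a : A, Nat.card (Fx (a : MulAut V) ⊓ W : Subgroup V) ≤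
        Nat.card (Fx (a : MulAut V) ⊓ W0 : Subgroup V) *
        Nat.card (Fx (a : MulAut V) ⊓ W1 : Subgroup V) := by
      intro a
      refine (card_le_mul_image f (inf_le_right : Fx (a : MulAut V) ⊓ W ≤ W) (hfx a a.2)).trans
        (le_of_eq ?_)
      rw [hker, hW0, inf_left_comm]
    calc _ ≤ (∏ a : A, Nat.card (Fx (a : MulAut V) ⊓ W0 : Subgroup V) *
          Nat.card (Fx (a : MulAut V) ⊓ W1 : Subgroup V)) ^ 2 :=
          Nat.pow_le_pow_left (Finset.prod_le_prod' fun a _ => hstep a) 2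
      _ ≤ Nat.card W0 ^ Fintype.card A * Nat.card W1 ^ Fintype.card A := by
          rw [Finset.prod_mul_distrib, mul_pow]; exact Nat.mul_le_mul e0 e1
      _ = _ := by rw [← mul_pow, hcard]

/-- A solvable irreducible nontrivial group has an element moving at least half of the module. -/
theorem exists_card_Fx_sq_le [Nontrivial V] (N : Subgroup (MulAut V)) [Finite N]
    (hsol : Group.IsSolvable N) (hirr : Irr N) (hN : N ≠ ⊥) :
    ∃ a ∈ N, Nat.card (Fx a) ^ 2 ≤ Nat.card V := by
  classical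
  haveI : Nontrivial N := N.nontrivial_iff_ne_bot.2 hN
  haveI := hsol
  obtain ⟨n, hn⟩ := Group.IsSolvable.solvable (G := N)
  have hex : ∃ k, derivedSeries N k = ⊥ := ⟨n, hn⟩
  set m := Nat.find hex with hm
  have hm0 : m ≠ 0 := fun h => by
    have h1 := Nat.find_spec hex
    rw [← hm, h, derivedSeries_zero] at h1
    exact top_ne_bot h1
  obtain ⟨k, hk⟩ := Nat.exists_eq_succ_of_ne_zero hm0
  set A0 := derivedSeries N k with hA0
  have hA0ne : A0 ≠ ⊥ := Nat.find_min hex (by omega)
  have hA0c : ∀ a ∈ A0, ∀ b ∈ A0, a * b = b * a := by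
    have h1 : ⁅A0, A0⁆ = ⊥ := by
      rw [hA0, ← derivedSeries_succ, show k + 1 = m from hk.symm]; exact Nat.find_spec hex
    exact fun a ha b hb => Subgroup.commutator_eq_bot_iff_le_centralizer.1 h1 hb a ha
  let A : Subgroup (MulAut V) := A0.map N.subtype
  haveI : Finite A := Finite.of_injective (fun a : A => (⟨a.1, Subgroup.map_subtype_le A0 a.2⟩ : N))
    fun a b h => Subtype.ext (congrArg (fun t : N => (t : MulAut V)) h)
  haveI := Fintype.ofFinite A
  have hAc : ∀ a ∈ A, ∀ b ∈ A, a * b = b * a := by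
    rintro _ ⟨a, ha, rfl⟩ _ ⟨b, hb, rfl⟩
    exact congrArg Subtype.val (hA0c a ha b hb)
  let C : Subgroup V :=
    { carrier := {v | ∀ a ∈ A, (a : MulAut V) v = v}
      one_mem' := fun a _ => map_one a
      mul_mem' := fun hx hy a ha => by rw [map_mul, hx a ha, hy a ha]
      inv_mem' := fun hx a ha => by rw [map_inv, hx a ha] }
  have hC : C = ⊥ := by
    refine (hirr C fun g hg v hv a ha => ?_).resolve_right fun htop => hA0ne ?_
    · obtain ⟨a0, ha0, rfl⟩ := ha
      have hmem : (⟨g, hg⟩ : N)⁻¹ * a0 * ⟨g, hg⟩ ∈ A0 := by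
        have := (derivedSeries_normal (G := N) k).conj_mem a0 ha0 (⟨g, hg⟩ : N)⁻¹
        rwa [inv_inv] at this
      have h1 := hv _ ⟨_, hmem, rfl⟩
      apply g.symm.injective
      rw [MulEquiv.symm_apply_apply]
      exact h1
    · refine (eq_bot_iff).2 fun a ha => Subgroup.mem_bot.2 (Subtype.ext ?_)
      refine MulEquiv.ext fun v => ?_
      exact (htop ▸ Subgroup.mem_top v : v ∈ C) _ ⟨a, ha, rfl⟩
  have h := prod_card_Fx_sq_le A hAc _ ⊤ rfl (fun _ _ _ _ => Subgroup.mem_top _)
    fun w _ hw => by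
      have : w ∈ C := hw
      rwa [hC, Subgroup.mem_bot] at this
  simp only [inf_top_eq, Subgroup.card_top] at h
  by_contra hno
  push Not at hno
  refine absurd h (not_le.2 ?_)
  rw [← Finset.prod_pow, ← Finset.card_univ, ← Finset.prod_const]
  refine Finset.prod_lt_prod_of_nonempty (fun _ _ => Nat.card_pos) (fun a _ => ?_)
    Finset.univ_nonempty
  exact hno a.1 (Subgroup.map_subtype_le A0 a.2)

theorem exists_card_mul_le (a : MulAut V) (g : MulAut V) :
    Nat.card (Fx g) * Nat.card (Fx (g * a)) ≤ Nat.card V * Nat.card (Fx a) := by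
  classical
  let X := Fx g
  let Y := Fx (g * a)
  let m : X × Y → V × Unit := fun p => (p.1.1 * p.2.1, ())
  have hXY : Nat.card X * Nat.card Y = Nat.card (X ⊔ Y : Subgroup V) * Nat.card (X ⊓ Y : Subgroup V) := by
    have h1 := Subgroup.relIndex_mul_relIndex (⊥ : Subgroup V) (X ⊓ Y) Y bot_le inf_le_right
    have h2 := Subgroup.relIndex_mul_relIndex (⊥ : Subgroup V) X (X ⊔ Y) bot_le le_sup_left
    simp only [Subgroup.relIndex_bot_left] at h1 h2
    rw [← h1, ← h2, Subgroup.relIndex_sup_left, Subgroup.inf_relIndex_right]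
    ring
  calc _ = _ := hXY
    _ ≤ _ := Nat.mul_le_mul (Subgroup.card_le_card_group _)
      (Subgroup.card_le_of_le (Fx_inf_mul_le g a))

/-- Fixed spaces in a coset of a fixed point free central cyclic group are independent. -/
theorem prod_card_Fx_coset_le {q : ℕ} (hq : q.Prime) (g z : MulAut V) (hgz : Commute g z)
    (hz : z ^ q = 1) (hfree : ∀ k, 0 < k → k < q → Fx (z ^ k) = ⊥) :
    ∏ i : Fin q, Nat.card (Fx (g * z ^ (i : ℕ))) ≤ Nat.card V := by
  classical
  let m : (∀ i : Fin q, Fx (g * z ^ (i : ℕ))) →* V :=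
    { toFun := fun f => ∏ i, (f i : V)
      map_one' := by simp
      map_mul' := fun f f' => by simp [Finset.prod_mul_distrib] }
  rw [← Nat.card_pi]
  refine Nat.card_le_card_of_injective m ((injective_iff_map_eq_one m).2 fun f hf => ?_)
  suffices H : ∀ (s : Finset (Fin q)) (v : Fin q → V),
      (∀ i ∈ s, (g * z ^ (i : ℕ)) (v i) = v i) → ∏ i ∈ s, v i = 1 → ∀ i ∈ s, v i = 1 from
    funext fun i => Subtype.ext
      (H Finset.univ (fun i => (f i : V)) (fun i _ => (f i).2) hf i (Finset.mem_univ i))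
  intro s
  induction s using Finset.induction_on with
  | empty => simp
  | @insert j s hjs ih =>
    intro v hv hprod
    rw [Finset.prod_insert hjs] at hprod
    let T : V →* V :=
      { toFun := fun x => (g * z ^ (j : ℕ)) x / x
        map_one' := by simp
        map_mul' := fun a b => by simp [mul_div_mul_comm] }
    have hTj : T (v j) = 1 := div_eq_one.2 (hv j (Finset.mem_insert_self j s))
    have hT : ∏ i ∈ s, T (v i) = 1 := by
      rw [← map_prod]
      have := congrArg T hprod
      rwa [map_mul, hTj, one_mul, map_one] at this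
    have hc : ∀ k l : ℕ, Commute (g * z ^ k) (g * z ^ l) := fun k l =>
      (((Commute.refl g).mul_right (hgz.pow_right l)).mul_left
        ((hgz.symm.pow_left k).mul_right (Commute.pow_pow_self z k l)))
    have h1 := ih (fun i => T (v i)) (fun i hi => by
      show (g * z ^ (i : ℕ)) ((g * z ^ (j : ℕ)) (v i) / v i) = (g * z ^ (j : ℕ)) (v i) / v i
      rw [map_div, ← MulAut.mul_apply, (hc i j).eq, MulAut.mul_apply,
        hv i (Finset.mem_insert_of_mem hi)]) hT
    have h2 : ∀ i ∈ s, v i = 1 := by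
      intro i hi
      have hfi := hv i (Finset.mem_insert_of_mem hi)
      have h3 : (g * z ^ (j : ℕ)) (v i) = v i := div_eq_one.1 (h1 i hi)
      have hij : (i : ℕ) ≠ (j : ℕ) := fun h => hjs (Fin.ext h ▸ hi)
      obtain ⟨k, hk0, hkq, hk⟩ : ∃ k, 0 < k ∧ k < q ∧ z ^ (j : ℕ) = z ^ (i : ℕ) * z ^ k := by
        rcases lt_or_gt_of_ne hij with h | h
        · exact ⟨j - i, by omega, by have := j.2; omega, by rw [← pow_add]; congr 1; omega⟩
        · refine ⟨q + j - i, by have := i.2; omega, by omega, ?_⟩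
          rw [← pow_add, show (i : ℕ) + (q + j - i) = q + j by omega, pow_add, hz, one_mul]
      rw [hk, ← mul_assoc, MulAut.mul_apply] at h3
      have h4 : (z ^ k) (v i) = v i := (g * z ^ (i : ℕ)).injective (h3.trans hfi.symm)
      have : v i ∈ Fx (z ^ k) := h4
      rwa [hfree k hk0 hkq, Subgroup.mem_bot] at this
    intro i hi
    rcases Finset.mem_insert.1 hi with rfl | hi
    · rwa [Finset.prod_eq_one h2, mul_one] at hprod
    · exact h2 i hi

/-- A nilpotent irreducible nontrivial group has a fixed point free central element of prime order. -/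
theorem exists_central_free (N : Subgroup (MulAut V)) [Finite N] (hnil : Group.IsNilpotent N)
    (hirr : Irr N) (hN : N ≠ ⊥) :
    ∃ z ∈ N, ∃ q : ℕ, q.Prime ∧ q ∣ Nat.card N ∧ z ^ q = 1 ∧ (∀ g ∈ N, Commute g z) ∧
      ∀ k, 0 < k → k < q → Fx (z ^ k) = ⊥ := by
  haveI : Nontrivial N := N.nontrivial_iff_ne_bot.2 hN
  haveI := hnil
  haveI : Nontrivial (Subgroup.center N) :=
    (Subgroup.nontrivial_iff_ne_bot _).2 (Group.IsNilpotent.center_ne_bot N)
  obtain ⟨q, hq, hqd⟩ := Nat.exists_prime_and_dvd (n := Nat.card (Subgroup.center N))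
    (Finite.one_lt_card.ne')
  haveI := Fact.mk hq
  obtain ⟨z, hz⟩ := exists_prime_orderOf_dvd_card' q hqd
  have hord : orderOf ((z : N) : MulAut V) = q := by rw [Subgroup.orderOf_coe, Subgroup.orderOf_coe, hz]
  refine ⟨((z : N) : MulAut V), (z : N).2, q, hq, hqd.trans (Subgroup.card_subgroup_dvd_card _),
    hord ▸ pow_orderOf_eq_one _, fun g hg => ?_, fun k hk0 hkq => ?_⟩
  · exact congrArg Subtype.val (Subgroup.mem_center_iff.1 z.2 ⟨g, hg⟩)
  · refine (hirr _ fun g hg v hv => ?_).resolve_right fun htop => ?_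
    · have hc : Commute g (((z : N) : MulAut V) ^ k) :=
        (show Commute g ((z : N) : MulAut V) from
          congrArg Subtype.val (Subgroup.mem_center_iff.1 z.2 ⟨g, hg⟩)).pow_right k
      rw [mem_Fx] at hv ⊢
      rw [← MulAut.mul_apply, ← hc.eq, MulAut.mul_apply, hv]
    · refine pow_ne_one_of_lt_orderOf hk0.ne' (hord.symm ▸ hkq) (MulEquiv.ext fun v => ?_)
      exact (htop ▸ Subgroup.mem_top v : v ∈ Fx (((z : N) : MulAut V) ^ k))

/-- In a nilpotent irreducible group on a `p`-group, elements of `p`-power order are trivial. -/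
theorem eq_one_of_pow_prime {p : ℕ} [Fact p.Prime] [Nontrivial V] (hV : IsPGroup p V)
    (N : Subgroup (MulAut V)) [Finite N] (hnil : Group.IsNilpotent N) (hirr : Irr N)
    {y : MulAut V} (hy : y ∈ N) {k : ℕ} (hyk : y ^ p ^ k = 1) : y = 1 := by
  classical
  haveI := hnil
  obtain ⟨P⟩ : Nonempty (Sylow p N) := inferInstance
  haveI hPn : (P : Subgroup N).Normal := inferInstance
  have hyP : (⟨y, hy⟩ : N) ∈ (P : Subgroup N) := by
    obtain ⟨Q, hQ⟩ := (IsPGroup.of_surjective
      (show IsPGroup p (Subgroup.zpowers (⟨y, hy⟩ : N)) from fun x => by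
        obtain ⟨x, i, rfl⟩ := x
        refine ⟨k, Subtype.ext ?_⟩
        show ((⟨y, hy⟩ : N) ^ i) ^ p ^ k = 1
        rw [← zpow_natCast, ← zpow_mul, mul_comm, zpow_mul, zpow_natCast,
          show (⟨y, hy⟩ : N) ^ p ^ k = 1 from Subtype.ext hyk, one_zpow])
      (MonoidHom.id _) Function.surjective_id).exists_le_sylow
    haveI : Subsingleton (Sylow p N) :=
      (Sylow.unique_of_normal P hPn).instSubsingleton
    exact Subsingleton.elim Q P ▸ hQ (Subgroup.mem_zpowers _)
  let C : Subgroup V :=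
    { carrier := {v | ∀ a ∈ (P : Subgroup N), (a : MulAut V) v = v}
      one_mem' := fun a _ => map_one (a : MulAut V)
      mul_mem' := fun hx hy a ha => by rw [map_mul, hx a ha, hy a ha]
      inv_mem' := fun hx a ha => by rw [map_inv, hx a ha] }
  have hCinv : ∀ g ∈ N, ∀ v ∈ C, (g : MulAut V) v ∈ C := by
    intro g hg v hv a ha
    have hmem : (⟨g, hg⟩ : N)⁻¹ * a * ⟨g, hg⟩ ∈ (P : Subgroup N) := by
      have := hPn.conj_mem a ha (⟨g, hg⟩ : N)⁻¹
      rwa [inv_inv] at this
    have h1 := hv _ hmem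
    apply g.symm.injective
    rw [MulEquiv.symm_apply_apply]
    exact h1
  rcases hirr C hCinv with h | h
  · exfalso
    haveI := Fintype.ofFinite V
    letI : MulAction (P : Subgroup N) V := MulAction.compHom V ((N.subtype).comp (P : Subgroup N).subtype)
    have hdvd : p ∣ Nat.card V := by
      obtain ⟨n, hn⟩ := hV.exists_card_eq
      have : 1 < Nat.card V := Finite.one_lt_card
      cases n with
      | zero => rw [hn] at this; simp at this
      | succ n => exact hn ▸ dvd_pow_self p (Nat.succ_ne_zero n)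
    obtain ⟨v, hv, hv1⟩ := P.2.exists_fixed_point_of_prime_dvd_card_of_fixed_point V hdvd
      (a := (1 : V)) (fun a => map_one ((a : N) : MulAut V))
    refine hv1 ((Subgroup.mem_bot).1 (h ▸ ?_ : v ∈ (⊥ : Subgroup V))).symm
    intro a ha
    exact hv ⟨a, ha⟩
  · exact MulEquiv.ext fun v => (h ▸ Subgroup.mem_top v : v ∈ C) ⟨y, hy⟩ hyP

end CfsgLib.Char.Primitive
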