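import Cfsg.Agent.Lib.Char.Primitive.ChiefSum
import Cfsg.Agent.Lib.Components.Radicals
import Cfsg.Agent.Lib.SolvStruct.Primitive

/-!
# The chief factor bounds for solvable groups and for odd metanilpotent groups
-/

set_option autoImplicit false

namespace CfsgLib.Char.Primitive

variable {G : Type*} [Group G] [Fintype G]

omit [Fintype G] in
theorem card_Fx_eq_pow {V : Type*} [CommGroup V] [Finite V] {p d : ℕ} (hp : p.Prime)
    (hV : Nat.card V = p ^ d) (a : MulAut V) :
    Nat.card (Fx a) = p ^ (Nat.card (Fx a)).factorization p ∧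
      (Nat.card (Fx a)).factorization p ≤ d := by
  obtain ⟨i, hi, he⟩ := (Nat.dvd_prime_pow hp).1 (hV ▸ (Fx a).card_subgroup_dvd_card)
  rw [he, Nat.factorization_pow, Finsupp.smul_apply, hp.factorization_self, smul_eq_mul, mul_one]
  exact ⟨rfl, hi⟩

theorem stepBound_solvable [Group.IsSolvable G] {p : ℕ} (hp : p.Prime) :
    StepBound G p ∅ 1 4 := by
  classical
  intro L K _ _ V _ hV hc d hd
  letI : CommGroup V := { (inferInstance : Group V) with mul_comm := hc.is_comm.comm }
  intro hirr hne
  set ρ : G →* MulAut V := MulAut.conjNormal.comp (QuotientGroup.mk' L) with hρ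
  refine ⟨fun y hy => hy.elim, ?_⟩
  haveI : Finite ρ.range :=
    Finite.of_surjective ρ.rangeRestrict ρ.rangeRestrict_surjective
  haveI : Nontrivial V := by
    by_contra h
    rw [not_nontrivial_iff_subsingleton] at h
    exact hne ((Subgroup.eq_bot_iff_forall _).2 fun a _ => MulEquiv.ext fun v => Subsingleton.elim _ _)
  have hsol : Group.IsSolvable ρ.range :=
    Group.isSolvable_of_surjective ρ.rangeRestrict_surjective
  obtain ⟨a, ⟨h0, rfl⟩, ha⟩ := exists_card_Fx_sq_le ρ.range hsol hirr hne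
  let c : G → ℕ := fun g => (Nat.card (Fx (ρ g))).factorization p
  have hc' : ∀ g, Nat.card (Fx (ρ g)) = p ^ c g := fun g => (card_Fx_eq_pow hp hd _).1
  have hcd : ∀ g, c g ≤ d := fun g => (card_Fx_eq_pow hp hd _).2
  have h1 : 2 * c h0 ≤ d := by
    rw [hc' h0, hd, ← pow_mul] at ha
    have := (Nat.pow_le_pow_iff_right hp.one_lt).1 ha
    omega
  have h2 : ∀ g, c g + c (g * h0) ≤ d + c h0 := by
    intro g
    have h := exists_card_mul_le (ρ h0) (ρ g)
    rw [← map_mul, hc', hc', hc', hd, ← pow_add, ← pow_add] at h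
    exact (Nat.pow_le_pow_iff_right hp.one_lt).1 h
  have h3 : ∀ g, d ≤ 2 * ((d - c g) + (d - c (g * h0))) := by
    intro g
    have := h2 g
    have := hcd g
    have := hcd (g * h0)
    omega
  have h4 : ∑ _g : G, d ≤ ∑ g : G, 2 * ((d - c g) + (d - c (g * h0))) :=
    Finset.sum_le_sum fun g _ => h3 g
  have h5 : ∑ g : G, (d - c (g * h0)) = ∑ g : G, (d - c g) :=
    Fintype.sum_equiv (Equiv.mulRight h0) _ _ fun _ => rfl
  rw [← Finset.mul_sum, Finset.sum_add_distrib, h5, Finset.sum_const, Finset.card_univ,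
    ← Nat.card_eq_fintype_card, smul_eq_mul] at h4
  rw [one_mul, mul_comm d]
  change _ ≤ 4 * ∑ g : G, (d - c g)
  omega

/-- The preimage of the `p`-part of the quotient by the Fitting subgroup. -/
theorem stepBound_metanilpotent (hodd : Odd (Nat.card G)) [(Cfsg.fittingSubgroup G).Normal]
    (hmeta : Group.IsNilpotent (G ⧸ Cfsg.fittingSubgroup G)) {p : ℕ} (hp : p.Prime)
    (S : Subgroup (G ⧸ Cfsg.fittingSubgroup G)) (hS : IsPGroup p S) :
    StepBound G p (S.comap (QuotientGroup.mk' (Cfsg.fittingSubgroup G)) : Set G) 2 3 := by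
  classical
  haveI := Fact.mk hp
  intro L K _ _ V _ hV hc d hd
  letI : CommGroup V := { (inferInstance : Group V) with mul_comm := hc.is_comm.comm }
  intro hirr hne
  set F := Cfsg.fittingSubgroup G with hF
  set ρ : G →* MulAut V := MulAut.conjNormal.comp (QuotientGroup.mk' L) with hρ
  haveI : Finite ρ.range :=
    Finite.of_surjective ρ.rangeRestrict ρ.rangeRestrict_surjective
  haveI : Nontrivial V := by
    by_contra h
    rw [not_nontrivial_iff_subsingleton] at h
    exact hne ((Subgroup.eq_bot_iff_forall _).2 fun a _ => MulEquiv.ext fun v => Subsingleton.elim _ _)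
  -- the Fitting subgroup centralises the chief factor
  have hFker : F ≤ ρ.ker := by
    haveI : Group.IsNilpotent F := CfsgLib.Components.fitting_isNilpotent
    have hVmin : ∀ M : Subgroup (G ⧸ L), M.Normal → M ≤ V → M = ⊥ ∨ M = V := by
      intro M hM hMV
      rcases hirr (M.subgroupOf V) (fun n hn w hw => by
        obtain ⟨g, rfl⟩ := hn
        exact hM.conj_mem _ hw _) with h | h
      · refine Or.inl ?_
        rw [← inf_eq_left.2 hMV]
        exact disjoint_iff.1 (Subgroup.subgroupOf_eq_bot.1 h)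
      · exact Or.inr (le_antisymm hMV (Subgroup.subgroupOf_eq_top.1 h))
    have hFn : (F.map (QuotientGroup.mk' L)).Normal :=
      Subgroup.Normal.map inferInstance _ (QuotientGroup.mk'_surjective L)
    have hle : F.map (QuotientGroup.mk' L) ≤ Cfsg.fittingSubgroup (G ⧸ L) :=
      CfsgLib.Components.le_fitting hFn (Group.nilpotent_of_surjective
        ((QuotientGroup.mk' L).subgroupMap F) ((QuotientGroup.mk' L).subgroupMap_surjective F))
    have hcent := hle.trans (CfsgLib.SolvStruct.minimal_normal_commutes_fitting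
      (M := V) inferInstance (fun h => by
        have : Nat.card V = 1 := by rw [h, Subgroup.card_bot]
        exact absurd this Finite.one_lt_card.ne') hVmin)
    intro x hx
    refine MulEquiv.ext fun v => Subtype.ext ?_
    show QuotientGroup.mk' L x * (v : G ⧸ L) * (QuotientGroup.mk' L x)⁻¹ = v
    rw [← Subgroup.mem_centralizer_iff.1 (hcent (Subgroup.mem_map_of_mem _ hx)) v v.2,
      mul_inv_cancel_right]
  have hnil : Group.IsNilpotent ρ.range := by
    haveI := hmeta
    let π : G ⧸ F →* ρ.range := QuotientGroup.lift F ρ.rangeRestrict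
      (by rw [MonoidHom.ker_rangeRestrict]; exact hFker)
    exact Group.nilpotent_of_surjective π fun y => by
      obtain ⟨x, rfl⟩ := ρ.rangeRestrict_surjective y
      exact ⟨x, rfl⟩
  refine ⟨fun y hy => ?_, ?_⟩
  · obtain ⟨k, hk⟩ := hS ⟨QuotientGroup.mk' F y, hy⟩
    have hk' : y ^ p ^ k ∈ F :=
      (QuotientGroup.eq_one_iff _).1 (congrArg Subtype.val hk)
    exact eq_one_of_pow_prime (IsPGroup.of_card hd) ρ.range hnil hirr ⟨y, rfl⟩
      (k := k) (by rw [← map_pow]; exact hFker hk')
  · obtain ⟨z, ⟨z0, rfl⟩, q, hq, hqd, hzq, hcomm, hfree⟩ :=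
      exists_central_free ρ.range hnil hirr hne
    have hq3 : 3 ≤ q := by
      have hoddq : Odd q := Odd.of_dvd_nat hodd (hqd.trans (Subgroup.card_range_dvd ρ))
      have := hq.two_le
      obtain ⟨j, hj⟩ := hoddq
      omega
    let c : G → ℕ := fun g => (Nat.card (Fx (ρ g))).factorization p
    have hc' : ∀ g, Nat.card (Fx (ρ g)) = p ^ c g := fun g => (card_Fx_eq_pow hp hd _).1
    have hcd : ∀ g, c g ≤ d := fun g => (card_Fx_eq_pow hp hd _).2
    have h1 : ∀ g, ∑ i : Fin q, c (g * z0 ^ (i : ℕ)) ≤ d := by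
      intro g
      have h := prod_card_Fx_coset_le hq (ρ g) (ρ z0) (hcomm _ ⟨g, rfl⟩) hzq hfree
      rw [Finset.prod_congr rfl (fun i _ => by rw [← map_pow, ← map_mul, hc']),
        Finset.prod_pow_eq_pow_sum, hd] at h
      exact (Nat.pow_le_pow_iff_right hp.one_lt).1 h
    have h2 : q * ∑ g : G, c g ≤ Nat.card G * d := by
      have h : ∑ g : G, ∑ i : Fin q, c (g * z0 ^ (i : ℕ)) ≤ ∑ _g : G, d :=
        Finset.sum_le_sum fun g _ => h1 g
      rw [Finset.sum_comm, Finset.sum_const, Finset.card_univ, ← Nat.card_eq_fintype_card,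
        smul_eq_mul] at h
      have he : ∑ i : Fin q, ∑ g : G, c (g * z0 ^ (i : ℕ)) = ∑ _i : Fin q, ∑ g : G, c g :=
        Finset.sum_congr rfl fun i _ =>
          Fintype.sum_equiv (Equiv.mulRight (z0 ^ (i : ℕ))) _ _ fun _ => rfl
      rwa [he, Finset.sum_const, Finset.card_univ, Fintype.card_fin, smul_eq_mul] at h
    have h3 : ∑ g : G, (d - c g) + ∑ g : G, c g = Nat.card G * d := by
      rw [← Finset.sum_add_distrib, Finset.sum_congr rfl (g := fun _ => d)
        (fun g _ => Nat.sub_add_cancel (hcd g)), Finset.sum_const, Finset.card_univ,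
        ← Nat.card_eq_fintype_card, smul_eq_mul]
    have h4 : 3 * ∑ g : G, c g ≤ Nat.card G * d := (Nat.mul_le_mul_right _ hq3).trans h2
    change 2 * (d * Nat.card G) ≤ 3 * ∑ g : G, (d - c g)
    rw [mul_comm d]
    omega

end CfsgLib.Char.Primitive
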